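import Groth.Agent.Henselization.IndEtale
import Mathlib.RingTheory.Etale.Pi
import Mathlib.RingTheory.Spectrum.Prime.Chevalley
import Mathlib.RingTheory.Flat.FaithfullyFlat.Algebra
import Mathlib.LinearAlgebra.TensorProduct.RightExactness
import Mathlib.LinearAlgebra.DirectSum.Finsupp
import Mathlib.FieldTheory.SeparableClosure

/-!
# From strictly henselian points to étale coverings

Finitely many elements of `S' ⊗[S] M` subject to finitely many natural equations exist for some
faithfully flat étale `S'` as soon as they exist for the strict henselization at every prime.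
-/

set_option autoImplicit false

open scoped TensorProduct
open CategoryTheory

namespace Groth.Agent.AzInvLib

universe u w

open Groth.Agent.Henselization

noncomputable section

variable {S : Type u} [CommRing S]

/-- A cover of the spectrum by finitely many étale pieces gives a faithfully flat étale algebra. -/
theorem exists_cover (P : ∀ (X : Type u) [CommRing X] [Algebra S X], Prop)
    (hp : ∀ p : PrimeSpectrum S, ∃ (X : Type u) (_ : CommRing X) (_ : Algebra S X) (_ : Algebra.Etale S X),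
      p ∈ Set.range (PrimeSpectrum.comap (algebraMap S X)) ∧ P X)
    (hprod : ∀ (n : ℕ) (X : Fin n → Type u) [∀ i, CommRing (X i)] [∀ i, Algebra S (X i)],
      (∀ i, P (X i)) → P (Π i, X i)) :
    ∃ (S' : Type u) (_ : CommRing S') (_ : Algebra S S') (_ : Algebra.Etale S S')
      (_ : Module.FaithfullyFlat S S'), P S' := by
  classical
  choose X hC hA hE hmem hP using hp
  have hopen : ∀ p, IsOpen (Set.range (PrimeSpectrum.comap (algebraMap S (X p)))) := fun p => by
    haveI : Module.Flat S (X p) := Algebra.Smooth.flat S (X p)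
    exact (PrimeSpectrum.isOpenMap_comap_of_hasGoingDown_of_finitePresentation (R := S) (S := X p)).isOpen_range
  obtain ⟨t, ht⟩ := isCompact_univ.elim_finite_subcover _ hopen fun p _ => Set.mem_iUnion.2 ⟨p, hmem p⟩
  let e := t.equivFin.symm
  let Y : Fin t.card → Type u := fun i => X (e i : PrimeSpectrum S)
  refine ⟨Π i, Y i, inferInstance, inferInstance, inferInstance, ?_, hprod _ Y fun i => hP _⟩
  haveI : Module.Flat S (Π i, Y i) := Algebra.Smooth.flat S _
  refine Module.FaithfullyFlat.of_comap_surjective fun p => ?_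
  obtain ⟨q, hq, hpq⟩ := Set.mem_iUnion₂.1 (ht (Set.mem_univ p))
  obtain ⟨i, hi⟩ := e.surjective ⟨q, hq⟩
  have hpi : p ∈ Set.range (PrimeSpectrum.comap (algebraMap S (Y i))) := by
    show p ∈ Set.range (PrimeSpectrum.comap (algebraMap S (X (e i : PrimeSpectrum S))))
    rw [hi]; exact hpq
  obtain ⟨P', hP'⟩ := hpi
  refine ⟨PrimeSpectrum.comap (Pi.evalRingHom Y i) P', ?_⟩
  rw [← PrimeSpectrum.comap_comp_apply]
  exact hP'

variable (S)

/-- The residue field of a strict henselization. -/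
abbrev KSep (p : PrimeSpectrum S) : Type u := SeparableClosure p.asIdeal.ResidueField

/-- The strict henselization at a prime. -/
abbrev SH (p : PrimeSpectrum S) : Type u := Hz S (KSep S p)

variable {S}

theorem ker_algebraMap_KSep (p : PrimeSpectrum S) : RingHom.ker (algebraMap S (KSep S p)) = p.asIdeal := by
  ext s
  rw [RingHom.mem_ker, IsScalarTower.algebraMap_apply S p.asIdeal.ResidueField (KSep S p), map_eq_zero,
    Ideal.algebraMap_residueField_eq_zero]

variable {K : Type u} [Field K] [Algebra S K]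

theorem exists_root_εH {f : Polynomial (Hz S K)} (hf : f.Monic) {α : K}
    (hα : (f.map (εH S K).toRingHom).eval α = 0)
    (hα' : ((f.map (εH S K).toRingHom).derivative).eval α ≠ 0) : ∃ z, εH S K z = α := by
  classical
  obtain ⟨i, fL, hfL, hmapL⟩ := exists_lift_poly f hf
  obtain ⟨s, hs⟩ := IsLocalization.exist_integer_multiples_of_finset i.q.primeCompl fL.coeffs
  let A₁ := Localization.Away (s : i.S)
  have hsu : IsUnit (algebraMap i.S i.L s) := IsLocalization.map_units i.L s
  let φ : A₁ →ₐ[S] i.L := IsLocalization.liftAlgHom (M := Submonoid.powers (s : i.S))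
    (f := IsScalarTower.toAlgHom S i.S i.L) (fun ⟨_, k, hk⟩ => by
      subst hk
      simpa using hsu.pow k)
  have hφ : ∀ b, φ (algebraMap i.S A₁ b) = algebraMap i.S i.L b := fun b => IsLocalization.lift_eq _ _
  have hlift : fL ∈ Polynomial.lifts φ.toRingHom := by
    rw [Polynomial.lifts_iff_coeff_lifts]
    intro k
    by_cases hk : fL.coeff k = 0
    · exact ⟨0, by rw [hk]; exact map_zero _⟩
    obtain ⟨b, hb⟩ := hs _ (Polynomial.coeff_mem_coeffs hk)
    refine ⟨algebraMap i.S A₁ b * IsLocalization.Away.invSelf (s : i.S), hsu.mul_left_cancel ?_⟩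
    show algebraMap i.S i.L s * φ _ = _
    rw [← hφ s, ← map_mul, mul_left_comm, IsLocalization.Away.mul_invSelf, mul_one, hφ, hb,
      Algebra.smul_def, hφ]
  obtain ⟨fA, hfA, -, hfAm⟩ := Polynomial.lifts_and_natDegree_eq_and_monic hlift hfL
  let σ₁ : A₁ →ₐ[S] K := i.ε.comp φ
  have hfK : f.map (εH S K).toRingHom = fA.map σ₁.toRingHom := by
    rw [← hmapL, ← hfA, Polynomial.map_map, Polynomial.map_map]
    rfl
  let P : StandardEtalePair A₁ := ⟨fA, hfAm, Polynomial.derivative fA, ⟨1, 0, 1, by simp⟩⟩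
  have : Algebra.Etale S A₁ := inferInstance
  let _ : Algebra S P.Ring := ((algebraMap A₁ P.Ring).comp (algebraMap S A₁)).toAlgebra
  have : IsScalarTower S A₁ P.Ring := .of_algebraMap_eq fun _ => rfl
  have : Algebra.Etale S P.Ring := Algebra.Etale.comp S A₁ _
  let _ : Algebra A₁ K := σ₁.toRingHom.toAlgebra
  have : IsScalarTower S A₁ K := .of_algebraMap_eq fun r => (σ₁.commutes r).symm
  have haev : ∀ p : Polynomial A₁, Polynomial.aeval α p = (p.map σ₁.toRingHom).eval α :=
    fun p => (Polynomial.eval_map _ _).symm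
  have hmap : P.HasMap α := by
    refine ⟨?_, ?_⟩
    · show Polynomial.aeval α fA = 0
      rw [haev, ← hfK, hα]
    · show IsUnit (Polynomial.aeval α (Polynomial.derivative fA))
      rw [haev, ← Polynomial.derivative_map, ← hfK]
      exact isUnit_iff_ne_zero.2 hα'
  obtain ⟨j, e, he⟩ := exists_idx P.Ring ((P.lift α hmap).restrictScalars S)
  refine ⟨Henselization.ι j (e P.X), ?_⟩
  rw [εH_ι, ← AlgHom.comp_apply, he]
  exact P.lift_X _ hmap

instance [IsSepClosed K] : IsSepClosed (IsLocalRing.ResidueField (Hz S K)) :=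
  IsSepClosed.of_exists_root _ fun p hpm hpi hps => by
    let τ : IsLocalRing.ResidueField (Hz S K) →+* K :=
      Ideal.Quotient.lift _ (εH S K).toRingHom fun a ha => (mem_maximalIdeal_iff a).1 ha
    have hτ : τ.comp (IsLocalRing.residue (Hz S K)) = (εH S K).toRingHom := RingHom.ext fun x => rfl
    have hl : p ∈ Polynomial.lifts (IsLocalRing.residue (Hz S K)) :=
      (Polynomial.mem_lifts p).2 (Polynomial.map_surjective _ IsLocalRing.residue_surjective p)
    obtain ⟨f, hf, -, hfm⟩ := Polynomial.lifts_and_natDegree_eq_and_monic hl hpm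
    obtain ⟨α, hα⟩ := IsSepClosed.exists_root (p.map τ)
      (by rw [Polynomial.degree_map]; exact (Polynomial.degree_pos_of_irreducible hpi).ne')
      ((Polynomial.separable_map _).2 hps)
    have hfK : f.map (εH S K).toRingHom = p.map τ := by rw [← hf, Polynomial.map_map, hτ]
    obtain ⟨z, hz⟩ := exists_root_εH hfm (α := α) (by rw [hfK]; exact hα) (by
      rw [hfK]
      exact Polynomial.Separable.eval₂_derivative_ne_zero (RingHom.id K)
        ((Polynomial.separable_map τ).2 hps) hα)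
    refine ⟨IsLocalRing.residue _ z, τ.injective ?_⟩
    rw [map_zero, ← hα, ← hz, Polynomial.eval_map, ← Polynomial.eval₂_at_apply]
    rfl

/-- The map of an étale algebra with a point to the henselization. -/
def toH (X : IdxCat S K) : X.idx.S →ₐ[S] Hz S K :=
  (Henselization.ι X.idx).comp (IsScalarTower.toAlgHom S X.idx.S X.idx.L)

theorem εH_toH (X : IdxCat S K) (x : X.idx.S) : εH S K (toH X x) = X.idx.pt x := by
  rw [toH, AlgHom.comp_apply, εH_ι]
  exact X.idx.ε_algebraMap x

theorem toH_comp {X Y : IdxCat S K} (f : X ⟶ Y) : (toH Y).comp f.1 = toH X :=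
  Hensel.algHom_unique (I := IsLocalRing.maximalIdeal (Hz S K))
    (IsLocalRing.jacobson_eq_maximalIdeal (⊥ : Ideal (Hz S K)) bot_ne_top).ge fun x => by
      rw [mem_maximalIdeal_iff, map_sub, AlgHom.comp_apply, εH_toH, εH_toH, ← AlgHom.comp_apply, f.2, sub_self]

theorem exists_toH (z : Hz S K) : ∃ (X : IdxCat S K) (x : X.idx.S), toH X x = z := by
  obtain ⟨i, y, rfl⟩ := exists_ι z
  obtain ⟨⟨a, s⟩, h⟩ := IsLocalization.surj i.q.primeCompl y
  obtain ⟨Y, f, hu, -⟩ := exists_hom_isUnit (⟨i⟩ : IdxCat S K) (s := (s : i.S)) s.2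
  obtain ⟨v, hv⟩ := hu.exists_right_inv
  refine ⟨Y, f.1 a * v, ?_⟩
  have hs : ∀ b, toH Y (f.1 b) = Henselization.ι i (algebraMap i.S i.L b) := fun b =>
    AlgHom.congr_fun (toH_comp f) b
  have h1 := congrArg (Henselization.ι i) h
  rw [map_mul, ← hs, ← hs] at h1
  rw [map_mul, ← h1, mul_assoc, ← map_mul, hv, map_one, mul_one]

theorem exists_kill (X : IdxCat S K) (x : X.idx.S) (hx : toH X x = 0) :
    ∃ (Y : IdxCat S K) (f : X ⟶ Y), f.1 x = 0 := by
  obtain ⟨j, hij, hj⟩ := exists_lift_zero (i := X.idx) (x := algebraMap X.idx.S X.idx.L x) hx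
  obtain ⟨Z, ⟨e₁⟩, ⟨e₂⟩⟩ := exists_hom_tensor X ⟨j⟩
  let toK : Z.idx.S →ₐ[S] Z.idx.L := IsScalarTower.toAlgHom S Z.idx.S Z.idx.L
  have hjk : j ≤ Z.idx := le_of_hom (toK.comp e₂.1) (AlgHom.ext fun y => by
    show Z.idx.ε (algebraMap _ _ (e₂.1 y)) = _
    rw [Z.idx.ε_algebraMap, ← AlgHom.comp_apply, e₂.2])
  have h1 : ((tr j Z.idx hjk).comp (tr X.idx j hij)).comp (IsScalarTower.toAlgHom S X.idx.S X.idx.L) =
      toK.comp e₁.1 :=
    hom_ext_of_etale Z.idx (AlgHom.ext fun y => by
      show Z.idx.ε (tr j Z.idx hjk (tr X.idx j hij (algebraMap _ _ y))) = Z.idx.ε (algebraMap _ _ (e₁.1 y))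
      rw [Z.idx.ε_algebraMap, ← AlgHom.comp_apply, ε_tr, ← AlgHom.comp_apply, ε_tr, X.idx.ε_algebraMap,
        ← AlgHom.comp_apply, e₁.2])
  have h2 : algebraMap Z.idx.S Z.idx.L (e₁.1 x) = 0 := by
    rw [show algebraMap Z.idx.S Z.idx.L (e₁.1 x) = (toK.comp e₁.1) x from rfl, ← h1, AlgHom.comp_apply,
      AlgHom.comp_apply, IsScalarTower.coe_toAlgHom', hj, map_zero]
  obtain ⟨s, hs⟩ := IsLocalization.exists_of_eq (M := Z.idx.q.primeCompl) (h2.trans (map_zero _).symm)
  obtain ⟨Y, g, -, hg⟩ := exists_hom_isUnit Z (s := (s : Z.idx.S)) s.2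
  exact ⟨Y, e₁ ≫ g, hg _ (by simpa using hs)⟩

variable {M : Type w} [AddCommGroup M] [Module S M]

/-- The induced map on tensor products. -/
abbrev tmap (M : Type w) [AddCommGroup M] [Module S M] {X Y : Type u} [CommRing X] [Algebra S X] [CommRing Y]
    [Algebra S Y] (g : X →ₐ[S] Y) : X ⊗[S] M →ₗ[S] Y ⊗[S] M :=
  LinearMap.rTensor M g.toLinearMap

theorem tmap_comp {X Y Z : Type u} [CommRing X] [Algebra S X] [CommRing Y] [Algebra S Y] [CommRing Z]
    [Algebra S Z] (g : X →ₐ[S] Y) (h : Y →ₐ[S] Z) (x : X ⊗[S] M) :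
    tmap M h (tmap M g x) = tmap M (h.comp g) x := by
  rw [tmap, tmap, ← LinearMap.comp_apply, ← LinearMap.rTensor_comp]
  rfl

theorem tmap_toH {X Y : IdxCat S K} (f : X ⟶ Y) (x : X.idx.S ⊗[S] M) :
    tmap M (toH Y) (tmap M f.1 x) = tmap M (toH X) x := by
  rw [tmap_comp, toH_comp]

theorem exists_lift_tensor (z : Hz S K ⊗[S] M) :
    ∃ (X : IdxCat S K) (x : X.idx.S ⊗[S] M), tmap M (toH X) x = z := by
  induction z using TensorProduct.induction_on with
  | zero => exact ⟨IsFiltered.nonempty.some, 0, map_zero _⟩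
  | tmul h m =>
    obtain ⟨X, x, rfl⟩ := exists_toH h
    exact ⟨X, x ⊗ₜ m, rfl⟩
  | add a b ha hb =>
    obtain ⟨X, x, rfl⟩ := ha
    obtain ⟨Y, y, rfl⟩ := hb
    exact ⟨IsFiltered.max X Y,
      tmap M (IsFiltered.leftToMax X Y).1 x + tmap M (IsFiltered.rightToMax X Y).1 y,
      by rw [map_add, tmap_toH, tmap_toH]⟩

theorem exists_lift_family {σ : Type*} [Finite σ] (z : σ → Hz S K ⊗[S] M) :
    ∃ (X : IdxCat S K) (x : σ → X.idx.S ⊗[S] M), ∀ i, tmap M (toH X) (x i) = z i := by
  classical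
  haveI := Fintype.ofFinite σ
  choose X x hx using fun i => exists_lift_tensor (z i)
  obtain ⟨Y, hY⟩ := IsFiltered.sup_objs_exists (Finset.univ.image X)
  refine ⟨Y, fun i => tmap M (hY (Finset.mem_image_of_mem X (Finset.mem_univ i))).some.1 (x i), fun i => ?_⟩
  rw [tmap_toH, hx]

theorem exists_kill_finsupp {σ : Type*} (X : IdxCat S K) (w : σ →₀ X.idx.S) (h : ∀ i, toH X (w i) = 0) :
    ∃ (Y : IdxCat S K) (f : X ⟶ Y), ∀ i, f.1 (w i) = 0 := by
  classical
  suffices H : ∀ t : Finset σ, ∃ (Y : IdxCat S K) (f : X ⟶ Y), ∀ i ∈ t, f.1 (w i) = 0 by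
    obtain ⟨Y, f, hf⟩ := H w.support
    refine ⟨Y, f, fun i => ?_⟩
    by_cases hi : i ∈ w.support
    · exact hf i hi
    · rw [Finsupp.notMem_support_iff.1 hi, map_zero]
  intro t
  induction t using Finset.induction_on with
  | empty => exact ⟨X, 𝟙 X, by simp⟩
  | @insert a t _ ih =>
    obtain ⟨Y, f, hf⟩ := ih
    obtain ⟨Z, g, hg⟩ := exists_kill Y (f.1 (w a)) (by rw [← AlgHom.comp_apply, toH_comp]; exact h a)
    refine ⟨Z, f ≫ g, fun i hi => ?_⟩
    show g.1 (f.1 (w i)) = 0
    rcases Finset.mem_insert.1 hi with rfl | hi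
    · exact hg
    · rw [hf i hi, map_zero]

theorem natural [DecidableEq M] {X Y : Type u} [CommRing X] [Algebra S X] [CommRing Y] [Algebra S Y] (g : X →ₐ[S] Y)
    (d : X ⊗[S] (M →₀ S)) (i : M) :
    TensorProduct.finsuppScalarRight S S Y M (tmap (M →₀ S) g d) i =
      g (TensorProduct.finsuppScalarRight S S X M d i) := by
  induction d using TensorProduct.induction_on with
  | zero => simp
  | tmul a b => simp [tmap, TensorProduct.finsuppScalarRight_apply_tmul_apply]
  | add a b ha hb => simp [map_add, ha, hb]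

theorem exists_kill_tensor (X : IdxCat S K) (x : X.idx.S ⊗[S] M) (hx : tmap M (toH X) x = 0) :
    ∃ (Y : IdxCat S K) (f : X ⟶ Y), tmap M f.1 x = 0 := by
  classical
  let π : (M →₀ S) →ₗ[S] M := Finsupp.linearCombination S id
  let P := LinearMap.ker π
  have hπ : Function.Surjective π := fun m => ⟨Finsupp.single m 1, by simp [π]⟩
  obtain ⟨x', rfl⟩ := LinearMap.lTensor_surjective X.idx.S hπ x
  have comm : ∀ {X Y : Type u} [CommRing X] [Algebra S X] [CommRing Y] [Algebra S Y] (g : X →ₐ[S] Y)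
      (z : X ⊗[S] (M →₀ S)), tmap M g (LinearMap.lTensor X π z) = LinearMap.lTensor Y π (tmap (M →₀ S) g z) :=
    fun g z => by
      rw [← LinearMap.comp_apply, LinearMap.rTensor_comp_lTensor, ← LinearMap.comp_apply,
        LinearMap.lTensor_comp_rTensor]
  have commP : ∀ {X Y : Type u} [CommRing X] [Algebra S X] [CommRing Y] [Algebra S Y] (g : X →ₐ[S] Y)
      (z : X ⊗[S] P), tmap (M →₀ S) g (LinearMap.lTensor X P.subtype z) = LinearMap.lTensor Y P.subtype (tmap P g z) :=
    fun g z => by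
      rw [← LinearMap.comp_apply, LinearMap.rTensor_comp_lTensor, ← LinearMap.comp_apply,
        LinearMap.lTensor_comp_rTensor]
  have hπker : π ∘ₗ P.subtype = 0 := LinearMap.ext fun z => z.2
  rw [comm] at hx
  have hex : Function.Exact ⇑P.subtype ⇑π := LinearMap.exact_subtype_ker_map π
  letI : AddCommGroup P := Submodule.addCommGroup P
  obtain ⟨z, hz⟩ := ((lTensor_exact (M := P) (N := M →₀ S) (Hz S K) (f := P.subtype) hex hπ) _).1 hx
  obtain ⟨Y, y, rfl⟩ := exists_lift_tensor z
  let Z := IsFiltered.max X Y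
  set f := IsFiltered.leftToMax X Y
  set g := IsFiltered.rightToMax X Y
  let d := tmap (M →₀ S) f.1 x' - LinearMap.lTensor Z.idx.S P.subtype (tmap P g.1 y)
  have hd : tmap (M →₀ S) (toH Z) d = 0 := by
    rw [map_sub, tmap_toH, commP, tmap_toH, hz, sub_self]
  let c := TensorProduct.finsuppScalarRight S S Z.idx.S M d
  have hc : ∀ i, toH Z (c i) = 0 := fun i => by
    have := congrArg (fun t => TensorProduct.finsuppScalarRight S S (Hz S K) M t i) hd
    simp only [map_zero, Finsupp.coe_zero, Pi.zero_apply] at this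
    rw [← this]
    exact (natural (toH Z) d i).symm
  obtain ⟨W, k, hk⟩ := exists_kill_finsupp Z c hc
  refine ⟨W, f ≫ k, ?_⟩
  have hd' : tmap (M →₀ S) k.1 d = 0 := (TensorProduct.finsuppScalarRight S S W.idx.S M).injective
    (Finsupp.ext fun i => by rw [natural, map_zero, Finsupp.coe_zero, Pi.zero_apply]; exact hk i)
  rw [map_sub, sub_eq_zero, commP] at hd'
  show tmap M (k.1.comp f.1) _ = 0
  rw [← tmap_comp, comm, comm, hd', ← LinearMap.comp_apply, ← LinearMap.lTensor_comp, hπker,
    LinearMap.lTensor_zero, LinearMap.zero_apply]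

/-- Solving finitely many natural equations étale locally. -/
theorem exists_cover_solution {σ κ : Type*} [Finite σ] [Finite κ]
    (E : ∀ (X : Type u) [CommRing X] [Algebra S X], (σ → X ⊗[S] M) → κ → X ⊗[S] M)
    (nat : ∀ (X Y : Type u) [CommRing X] [Algebra S X] [CommRing Y] [Algebra S Y] (g : X →ₐ[S] Y)
      (z : σ → X ⊗[S] M) (k : κ), tmap M g (E X z k) = E Y (fun i => tmap M g (z i)) k)
    (loc : ∀ p : PrimeSpectrum S, ∃ z : σ → SH S p ⊗[S] M, ∀ k, E (SH S p) z k = 0) :
    ∃ (S' : Type u) (_ : CommRing S') (_ : Algebra S S') (_ : Algebra.Etale S S')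
      (_ : Module.FaithfullyFlat S S') (z : σ → S' ⊗[S] M), ∀ k, E S' z k = 0 := by
  classical
  refine exists_cover (fun X _ _ => ∃ z : σ → X ⊗[S] M, ∀ k, E X z k = 0) (fun p => ?_) fun n X _ _ h => ?_
  · haveI := Fintype.ofFinite κ
    obtain ⟨z, hz⟩ := loc p
    obtain ⟨X, x, hx⟩ := exists_lift_family z
    have hk : ∀ t : Finset κ, ∃ (Y : IdxCat S (KSep S p)) (f : X ⟶ Y),
        ∀ k ∈ t, tmap M f.1 (E X.idx.S x k) = 0 := by
      intro t
      induction t using Finset.induction_on with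
      | empty => exact ⟨X, 𝟙 X, by simp⟩
      | @insert a t _ ih =>
        obtain ⟨Y, f, hf⟩ := ih
        obtain ⟨Z, g, hg⟩ := exists_kill_tensor Y (tmap M f.1 (E X.idx.S x a))
          (by rw [tmap_toH, nat, funext hx]; exact hz a)
        refine ⟨Z, f ≫ g, fun i hi => ?_⟩
        show tmap M (g.1.comp f.1) _ = 0
        rw [← tmap_comp]
        rcases Finset.mem_insert.1 hi with rfl | hi
        · exact hg
        · rw [hf i hi, map_zero]
    obtain ⟨Y, f, hf⟩ := hk Finset.univ
    refine ⟨Y.idx.S, inferInstance, inferInstance, inferInstance, ⟨⟨Y.idx.q, inferInstance⟩, ?_⟩,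
      fun i => tmap M f.1 (x i), fun k => by rw [← nat]; exact hf k (Finset.mem_univ k)⟩
    refine PrimeSpectrum.ext ?_
    show (RingHom.ker Y.idx.pt.toRingHom).comap (algebraMap S Y.idx.S) = p.asIdeal
    rw [RingHom.comap_ker, show Y.idx.pt.toRingHom.comp (algebraMap S Y.idx.S) = algebraMap S (KSep S p) from
      Y.idx.pt.comp_algebraMap, ker_algebraMap_KSep]
  · choose z hz using h
    let sgl : ∀ i, X i →ₗ[S] (Π j, X j) := fun i => LinearMap.single S X i
    let pr : ∀ i, (Π j, X j) →ₐ[S] X i := fun i => Pi.evalAlgHom S X i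
    let Z : σ → (Π j, X j) ⊗[S] M := fun a => ∑ i, LinearMap.rTensor M (sgl i) (z i a)
    have hZ : ∀ i a, tmap M (pr i) (Z a) = z i a := fun i a => by
      rw [map_sum, Finset.sum_eq_single i]
      · rw [tmap, ← LinearMap.comp_apply, ← LinearMap.rTensor_comp,
          show (pr i).toLinearMap ∘ₗ sgl i = LinearMap.id from LinearMap.ext fun y => by simp [pr, sgl],
          LinearMap.rTensor_id, LinearMap.id_apply]
      · intro j _ hji
        rw [tmap, ← LinearMap.comp_apply, ← LinearMap.rTensor_comp,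
          show (pr i).toLinearMap ∘ₗ sgl j = 0 from LinearMap.ext fun y => by
            simp [pr, sgl, Pi.single_eq_of_ne hji.symm],
          LinearMap.rTensor_zero, LinearMap.zero_apply]
      · simp
    refine ⟨Z, fun k => ?_⟩
    have h0 : ∀ i, tmap M (pr i) (E _ Z k) = 0 := fun i => by rw [nat, funext (hZ i)]; exact hz i k
    have hid : (LinearMap.id : (Π j, X j) →ₗ[S] (Π j, X j)) = ∑ i, sgl i ∘ₗ (pr i).toLinearMap :=
      LinearMap.ext fun y => by
        rw [LinearMap.id_apply, LinearMap.sum_apply]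
        simp [pr, sgl, Finset.univ_sum_single]
    rw [← LinearMap.id_apply (R := S) (E _ Z k), ← LinearMap.rTensor_id, hid, ← LinearMap.coe_rTensorHom, map_sum,
      LinearMap.sum_apply]
    refine Finset.sum_eq_zero fun i _ => ?_
    rw [LinearMap.coe_rTensorHom, LinearMap.rTensor_comp, LinearMap.comp_apply]
    rw [show LinearMap.rTensor M (pr i).toLinearMap (E _ Z k) = 0 from h0 i, map_zero]

end

end Groth.Agent.AzInvLib
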