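import Groth.Agent.AzInvLib.Split
import Groth.Agent.AzInvLib.Cover
import Groth.Agent.RInvLib.Basic

/-!
# Base change to `S' ⊗[S] R` and the strictly henselian local picture
-/

set_option autoImplicit false

open scoped TensorProduct

namespace Groth.Agent.AzInvLib

universe u v w u'

noncomputable section

attribute [local instance] Algebra.TensorProduct.rightAlgebra

variable {S : Type u} [CommRing S] {R : Type v} [CommRing R] [Algebra S R]
  {A : Type w} [Ring A] [Algebra S A] [Algebra R A] [IsScalarTower S R A]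
  (S' : Type u') [CommRing S'] [Algebra S S']

/-- The image of `S' ⊗ R` in `S' ⊗ A`. -/
def rho : S' ⊗[S] R →ₐ[S'] S' ⊗[S] A :=
  Algebra.TensorProduct.map (AlgHom.id S' S') ((Algebra.ofId R A).restrictScalars S)

theorem rho_tmul (s : S') (r : R) : rho (A := A) S' (s ⊗ₜ[S] r) = s ⊗ₜ[S] algebraMap R A r := rfl

theorem rho_commute (x : S' ⊗[S] R) (z : S' ⊗[S] A) : rho S' x * z = z * rho S' x := by
  induction x using TensorProduct.induction_on with
  | zero => simp
  | add x y hx hy => rw [map_add, add_mul, mul_add, hx, hy]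
  | tmul s r =>
    induction z using TensorProduct.induction_on with
    | zero => simp
    | add a b ha hb => rw [mul_add, add_mul, ha, hb]
    | tmul c a =>
      rw [rho_tmul, Algebra.TensorProduct.tmul_mul_tmul, Algebra.TensorProduct.tmul_mul_tmul, mul_comm s c,
        Algebra.commutes r a]

theorem rho_algebraMap (r : R) :
    rho (A := A) S' (algebraMap R (S' ⊗[S] R) r) = (1 : S') ⊗ₜ[S] algebraMap R A r := rfl

/-- The forward map. -/
def fwd : (S' ⊗[S] R) ⊗[R] A →+ S' ⊗[S] A :=
  TensorProduct.liftAddHom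
    (AddMonoidHom.mk' (fun x => AddMonoidHom.mk' (fun a => rho (A := A) S' x * ((1 : S') ⊗ₜ[S] a))
        fun a b => by rw [TensorProduct.tmul_add, mul_add])
      fun x y => AddMonoidHom.ext fun a => by simp [add_mul])
    fun r x a => by
      simp only [AddMonoidHom.mk'_apply]
      rw [Algebra.smul_def r x, Algebra.smul_def r a, map_mul, rho_algebraMap,
        ← rho_algebraMap (A := A) S' r, rho_commute, mul_assoc, rho_algebraMap]
      rw [Algebra.TensorProduct.tmul_mul_tmul, one_mul]

theorem fwd_tmul (x : S' ⊗[S] R) (a : A) : fwd S' (x ⊗ₜ[R] a) = rho S' x * ((1 : S') ⊗ₜ[S] a) := rfl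

/-- The backward map. -/
def bwd : S' ⊗[S] A →+ (S' ⊗[S] R) ⊗[R] A :=
  TensorProduct.liftAddHom
    (AddMonoidHom.mk' (fun (s : S') => AddMonoidHom.mk'
        (fun (a : A) => ((s ⊗ₜ[S] (1 : R)) ⊗ₜ[R] a : (S' ⊗[S] R) ⊗[R] A))
        fun a b => TensorProduct.tmul_add _ _ _)
      fun s t => AddMonoidHom.ext fun a => by simp [TensorProduct.add_tmul])
    fun c s a => by
      simp only [AddMonoidHom.mk'_apply]
      rw [← algebraMap_smul R c a, ← TensorProduct.smul_tmul, Algebra.smul_def (algebraMap S R c),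
        show algebraMap R (S' ⊗[S] R) (algebraMap S R c) = (1 : S') ⊗ₜ[S] algebraMap S R c from rfl,
        Algebra.TensorProduct.tmul_mul_tmul, one_mul, mul_one, Algebra.algebraMap_eq_smul_one c,
        TensorProduct.smul_tmul]

theorem bwd_tmul (s : S') (a : A) : bwd (R := R) S' (s ⊗ₜ[S] a) = (s ⊗ₜ[S] (1 : R)) ⊗ₜ[R] a := rfl

theorem fwd_bwd (z : S' ⊗[S] A) : fwd S' (bwd (R := R) S' z) = z := by
  induction z using TensorProduct.induction_on with
  | zero => simp
  | add x y hx hy => rw [map_add, map_add, hx, hy]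
  | tmul s a =>
    rw [bwd_tmul, fwd_tmul, rho_tmul, map_one, Algebra.TensorProduct.tmul_mul_tmul, mul_one, one_mul]

theorem bwd_fwd (z : (S' ⊗[S] R) ⊗[R] A) : bwd S' (fwd S' z) = z := by
  induction z using TensorProduct.induction_on with
  | zero => simp
  | add x y hx hy => rw [map_add, map_add, hx, hy]
  | tmul x a =>
    induction x using TensorProduct.induction_on with
    | zero => simp
    | add x y hx hy => rw [TensorProduct.add_tmul, map_add, map_add, hx, hy]
    | tmul s r =>
      rw [fwd_tmul, rho_tmul, Algebra.TensorProduct.tmul_mul_tmul, mul_one, bwd_tmul, ← Algebra.smul_def,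
        ← TensorProduct.smul_tmul, Algebra.smul_def r (s ⊗ₜ[S] (1 : R)),
        show algebraMap R (S' ⊗[S] R) r = (1 : S') ⊗ₜ[S] r from rfl, Algebra.TensorProduct.tmul_mul_tmul,
        one_mul, mul_one]

/-- The identification of the two base changes. -/
def bridge : (S' ⊗[S] R) ⊗[R] A ≃+* S' ⊗[S] A where
  toFun := fwd S'
  invFun := bwd S'
  left_inv := bwd_fwd S'
  right_inv := fwd_bwd S'
  map_add' := map_add _
  map_mul' z w := by
    induction z using TensorProduct.induction_on with
    | zero => simp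
    | add x y hx hy => rw [add_mul, map_add, map_add, hx, hy, add_mul]
    | tmul x a =>
      induction w using TensorProduct.induction_on with
      | zero => simp
      | add p q hp hq => rw [mul_add, map_add, map_add, hp, hq, mul_add]
      | tmul y b =>
        rw [Algebra.TensorProduct.tmul_mul_tmul, fwd_tmul, fwd_tmul, fwd_tmul, map_mul]
        calc rho S' x * rho S' y * ((1 : S') ⊗ₜ[S] (a * b))
            = rho S' x * (rho S' y * ((1 : S') ⊗ₜ[S] a)) * ((1 : S') ⊗ₜ[S] b) := by
              rw [mul_assoc (rho S' x) (rho S' y), mul_assoc (rho S' x) (rho S' y * _), mul_assoc (rho S' y),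
                Algebra.TensorProduct.tmul_mul_tmul, one_mul]
          _ = _ := by rw [rho_commute S' y, ← mul_assoc, mul_assoc]

theorem bridge_algebraMap (x : S' ⊗[S] R) :
    bridge (R := R) (A := A) S' (algebraMap (S' ⊗[S] R) ((S' ⊗[S] R) ⊗[R] A) x) = rho S' x := by
  show fwd S' (x ⊗ₜ[R] (1 : A)) = _
  rw [fwd_tmul, ← Algebra.TensorProduct.one_def, mul_one]

theorem bridge_tmul (a : A) : bridge (R := R) S' ((1 : S' ⊗[S] R) ⊗ₜ[R] a) = (1 : S') ⊗ₜ[S] a := by
  show fwd (R := R) (A := A) S' ((1 : S' ⊗[S] R) ⊗ₜ[R] a) = _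
  rw [fwd_tmul, map_one, one_mul]

/-- `tmap` as an algebra map. -/
theorem tmap_eq {X Y : Type u} [CommRing X] [Algebra S X] [CommRing Y] [Algebra S Y] (g : X →ₐ[S] Y)
    (z : X ⊗[S] A) : tmap A g z = Algebra.TensorProduct.map g (AlgHom.id S A) z := rfl

variable {S'}

variable {lam : R ≃ₐ[S] R}

/-- The strictly henselian local picture. -/
theorem sh_setting (hlam : ∀ r, lam (lam r) = r) (hfix : RInv.IsFixedRing S R lam.toRingEquiv)
    (p : PrimeSpectrum S) :
    Algebra.IsIntegral (SH S p) (SH S p ⊗[S] R) ∧ Finite (MaximalSpectrum (SH S p ⊗[S] R)) ∧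
      ∀ (q : Ideal (SH S p ⊗[S] R)) [q.IsMaximal],
        letI := Ideal.Quotient.field q; IsSepClosed ((SH S p ⊗[S] R) ⧸ q) := by
  have hlam' : Function.Involutive lam.toRingEquiv := hlam
  have hfix' := RInvLib.isFixedRing_bcInv hlam' hfix (SH S p) (Or.inl inferInstance)
  have hinv' := RInvLib.bcInv_involutive hlam' hfix (SH S p)
  haveI hint := RInvLib.isIntegral hinv' hfix'
  refine ⟨hint, ?_, fun q hq => ?_⟩
  · classical
    rcases isEmpty_or_nonempty (MaximalSpectrum (SH S p ⊗[S] R)) with h | ⟨⟨Q₀⟩⟩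
    · infer_instance
    haveI := Q₀.isMaximal
    haveI hQ₁ : (Q₀.asIdeal.comap (RInvLib.bcInv lam.toRingEquiv hfix (SH S p)).toRingHom).IsMaximal :=
      Ideal.comap_isMaximal_of_surjective _ (RingEquiv.surjective _)
    refine Finite.of_surjective (fun b : Bool => if b then Q₀ else ⟨_, hQ₁⟩) fun Q => ?_
    haveI := Q.isMaximal
    rcases RInvLib.maximal_eq_or hinv' hfix' Q₀.asIdeal Q.asIdeal with h | h
    · exact ⟨true, MaximalSpectrum.ext h.symm⟩
    · exact ⟨false, MaximalSpectrum.ext h.symm⟩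
  · letI := Ideal.Quotient.field q
    have hc := RInvLib.comap_maximal hinv' hfix' q
    letI : Algebra (IsLocalRing.ResidueField (SH S p)) ((SH S p ⊗[S] R) ⧸ q) :=
      (Ideal.quotientMap q (algebraMap (SH S p) _) hc.ge).toAlgebra
    haveI : Algebra.IsAlgebraic (IsLocalRing.ResidueField (SH S p)) ((SH S p ⊗[S] R) ⧸ q) := by
      haveI : Algebra.IsIntegral (IsLocalRing.ResidueField (SH S p)) ((SH S p ⊗[S] R) ⧸ q) := ⟨fun z => by
        obtain ⟨z, rfl⟩ := Ideal.Quotient.mk_surjective z
        obtain ⟨P, hP, hP0⟩ := hint.isIntegral z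
        refine ⟨P.map (IsLocalRing.residue (SH S p)), hP.map _, ?_⟩
        rw [Polynomial.eval₂_map,
          show (algebraMap (IsLocalRing.ResidueField (SH S p)) ((SH S p ⊗[S] R) ⧸ q)).comp
              (IsLocalRing.residue (SH S p)) = (Ideal.Quotient.mk q).comp (algebraMap (SH S p) _) from
            Ideal.quotientMap_comp_mk _,
          ← Polynomial.hom_eval₂, hP0, map_zero]⟩
      exact Algebra.IsIntegral.isAlgebraic
    exact Algebra.IsAlgebraic.isSepClosed (F := IsLocalRing.ResidueField (SH S p))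

/-- Matrix units on an étale covering. -/
theorem exists_units_cover (hlam : ∀ r, lam (lam r) = r) (hfix : RInv.IsFixedRing S R lam.toRingEquiv)
    {n : ℕ} [NeZero n] (hA : AzInv.IsAzumayaDeg R A n) :
    ∃ (S' : Type u) (_ : CommRing S') (_ : Algebra S S') (_ : Algebra.Etale S S')
      (_ : Module.FaithfullyFlat S S') (E : Fin n → Fin n → S' ⊗[S] A), IsUnits E := by
  classical
  obtain ⟨S', h1, h2, h3, h4, z, hz⟩ := exists_cover_solution (S := S) (M := A) (σ := Fin n × Fin n)
    (κ := (Fin n × Fin n × Fin n × Fin n) ⊕ Unit)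
    (fun X _ _ z => Sum.elim
      (fun k => z (k.1, k.2.1) * z (k.2.2.1, k.2.2.2) - if k.2.1 = k.2.2.1 then z (k.1, k.2.2.2) else 0)
      fun _ => ∑ i, z (i, i) - 1)
    (fun X Y _ _ _ _ g z k => by
      rcases k with k | k
      · simp only [Sum.elim_inl, tmap_eq]; split_ifs <;> simp only [map_sub, map_mul, map_zero]
      · simp only [Sum.elim_inr, tmap_eq, map_sub, map_sum, map_one])
    fun p => by
      obtain ⟨hint, hfin, hsep⟩ := sh_setting hlam hfix p
      haveI := hA.1
      obtain ⟨E, hE⟩ := exists_units (A := A) (SH S p ⊗[S] R) (SH S p)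
        (splitFibres_of_isSepClosed hA hsep) (n := n)
      have hE' := hE.map (bridge (R := R) (A := A) (SH S p)).toRingHom
      exact ⟨fun k => bridge (SH S p) (E k.1 k.2), fun k => by
        rcases k with k | k
        · exact sub_eq_zero.2 (hE'.1 _ _ _ _)
        · exact sub_eq_zero.2 hE'.2⟩
  exact ⟨S', h1, h2, h3, h4, fun i j => z (i, j),
    fun i j k l => sub_eq_zero.1 (hz (Sum.inl (i, j, k, l))), sub_eq_zero.1 (hz (Sum.inr ()))⟩

theorem smul_tmul_one (S' : Type u') [CommRing S'] [Algebra S S'] (r : R) (a : A) :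
    (1 : S') ⊗ₜ[S] (r • a) = rho S' (algebraMap R (S' ⊗[S] R) r) * ((1 : S') ⊗ₜ[S] a) := by
  rw [rho_algebraMap, Algebra.TensorProduct.tmul_mul_tmul, one_mul, Algebra.smul_def]

/-- Automorphisms are inner on an étale covering. -/
theorem exists_inner_cover (hlam : ∀ r, lam (lam r) = r) (hfix : RInv.IsFixedRing S R lam.toRingEquiv)
    {n : ℕ} [NeZero n] (hA : AzInv.IsAzumayaDeg R A n) (ψ : A →ₐ[R] A) :
    ∃ (S' : Type u) (_ : CommRing S') (_ : Algebra S S') (_ : Algebra.Etale S S')
      (_ : Module.FaithfullyFlat S S') (u : (S' ⊗[S] A)ˣ),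
      ∀ a : A, ((1 : S') ⊗ₜ[S] ψ a) * ↑u = ↑u * ((1 : S') ⊗ₜ[S] a) := by
  classical
  haveI := hA.1
  obtain ⟨m, g, hg⟩ := Module.Finite.exists_fin (R := R) (M := A)
  obtain ⟨S', h1, h2, h3, h4, z, hz⟩ := exists_cover_solution (S := S) (M := A) (σ := Bool) (κ := Bool ⊕ Fin m)
    (fun X _ _ z => Sum.elim (fun b => z b * z (!b) - 1)
      fun k => ((1 : X) ⊗ₜ[S] ψ (g k)) * z true - z true * ((1 : X) ⊗ₜ[S] g k))
    (fun X Y _ _ _ _ f z k => by
      rcases k with k | k
      · simp only [Sum.elim_inl, tmap_eq, map_sub, map_mul, map_one]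
      · simp only [Sum.elim_inr, tmap_eq, map_sub, map_mul, Algebra.TensorProduct.map_tmul, map_one]
        rfl)
    fun p => by
      obtain ⟨hint, hfin, hsep⟩ := sh_setting hlam hfix p
      obtain ⟨u, hu⟩ := exists_inner (A := A) (SH S p ⊗[S] R) (SH S p) hA (splitFibres_of_isSepClosed hA hsep)
        (Algebra.TensorProduct.map (AlgHom.id _ _) ψ)
      refine ⟨fun b => bridge (R := R) (A := A) (SH S p) (bif b then (↑u : (SH S p ⊗[S] R) ⊗[R] A) else ↑u⁻¹), fun k => ?_⟩
      rcases k with b | k <;> refine sub_eq_zero.2 ?_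
      · show bridge (SH S p) _ * bridge (SH S p) _ = 1
        rw [← map_mul, ← map_one (bridge (R := R) (A := A) (SH S p))]
        cases b
        · exact congrArg _ (Units.inv_mul u)
        · exact congrArg _ (Units.mul_inv u)
      · have := congrArg (bridge (R := R) (A := A) (SH S p)) (hu ((1 : SH S p ⊗[S] R) ⊗ₜ[R] g k))
        rw [map_mul, map_mul, Algebra.TensorProduct.map_tmul, AlgHom.id_apply, bridge_tmul, bridge_tmul] at this
        exact this
  refine ⟨S', h1, h2, h3, h4, ⟨z true, z false, sub_eq_zero.1 (hz (Sum.inl true)), sub_eq_zero.1 (hz (Sum.inl false))⟩,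
    fun a => ?_⟩
  have ha : a ∈ Submodule.span R (Set.range g) := hg ▸ Submodule.mem_top
  induction ha using Submodule.span_induction with
  | mem x hx =>
    obtain ⟨k, rfl⟩ := hx
    exact sub_eq_zero.1 (hz (Sum.inr k))
  | zero => simp
  | add x y _ _ hx hy => rw [map_add, TensorProduct.tmul_add, TensorProduct.tmul_add, add_mul, mul_add, hx, hy]
  | smul r x _ hx =>
    rw [map_smul, smul_tmul_one, smul_tmul_one, mul_assoc, hx, ← mul_assoc, rho_commute, mul_assoc]

/-- Splitting on an étale covering of the fixed ring. -/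
theorem exists_matrix_iso (hlam : ∀ r, lam (lam r) = r) (hfix : RInv.IsFixedRing S R lam.toRingEquiv)
    {n : ℕ} [NeZero n] (hA : AzInv.IsAzumayaDeg R A n) :
    ∃ (S' : Type u) (_ : CommRing S') (_ : Algebra S S') (_ : Algebra.Etale S S')
      (_ : Module.FaithfullyFlat S S') (f : S' ⊗[S] A ≃ₐ[S'] Matrix (Fin n) (Fin n) (S' ⊗[S] R)),
      ∀ (x : S' ⊗[S] R) (z : S' ⊗[S] A), f (rho S' x * z) = Matrix.scalar (Fin n) x * f z := by
  obtain ⟨S', h1, h2, h3, h4, E, hE⟩ := exists_units_cover hlam hfix hA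
  have hE' : IsUnits fun i j => (bridge (R := R) (A := A) S').symm (E i j) :=
    ⟨fun i j k l => (bridge (R := R) (A := A) S').injective (by
      rw [map_mul, RingEquiv.apply_symm_apply, RingEquiv.apply_symm_apply, hE.1, apply_ite (bridge (R := R) (A := A) S'),
        map_zero, RingEquiv.apply_symm_apply]),
      (bridge (R := R) (A := A) S').injective (by
        rw [map_sum, map_one]; simp only [RingEquiv.apply_symm_apply]; exact hE.2)⟩
  let Φ := AlgEquiv.ofBijective (unitsHom (T := S' ⊗[S] R) hE') (unitsHom_bijective hA hE')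
  let g : S' ⊗[S] A ≃+* Matrix (Fin n) (Fin n) (S' ⊗[S] R) :=
    (bridge (R := R) (A := A) S').symm.trans Φ.symm.toRingEquiv
  have hg : ∀ x, g (rho S' x) = Matrix.scalar (Fin n) x := fun x => by
    show Φ.symm ((bridge (R := R) (A := A) S').symm (rho S' x)) = _
    rw [← bridge_algebraMap (R := R) (A := A) S', RingEquiv.symm_apply_apply, AlgEquiv.commutes]
    rfl
  refine ⟨S', h1, h2, h3, h4, AlgEquiv.ofRingEquiv (f := g) fun s => ?_, fun x z => ?_⟩
  · rw [show algebraMap S' (S' ⊗[S] A) s = rho S' (algebraMap S' (S' ⊗[S] R) s) from ((rho (A := A) S').commutes s).symm, hg]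
    rfl
  · show g (rho S' x * z) = _
    rw [map_mul, hg]
    rfl

end

end Groth.Agent.AzInvLib
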