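import Groth.Agent.AzInvLib.Local

/-!
# Orthogonal and symplectic points
-/

set_option autoImplicit false

open scoped TensorProduct
open CategoryTheory

namespace Groth.Agent.AzInvLib

universe u v w w₂

noncomputable section

attribute [local instance] Algebra.TensorProduct.rightAlgebra

open RInvLib (ct)
open Groth.Agent.Henselization

variable {S : Type u} [CommRing S]

/-- An étale algebra with a prime over `p` maps to the strict henselization at `p`. -/
theorem exists_algHom_SH {p : PrimeSpectrum S} (X : Type u) [CommRing X] [Algebra S X] [Algebra.Etale S X]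
    (hp : p ∈ Set.range (PrimeSpectrum.comap (algebraMap S X))) : Nonempty (X →ₐ[S] SH S p) := by
  let B := KSep S p ⊗[S] X
  haveI : Nontrivial B := by
    obtain ⟨P, hP⟩ := hp
    haveI := P.isPrime
    have hker : P.asIdeal.comap (algebraMap S X) = p.asIdeal := congrArg PrimeSpectrum.asIdeal hP
    let μ : p.asIdeal.ResidueField →ₐ[S] P.asIdeal.ResidueField :=
      { toRingHom := Ideal.ResidueField.map p.asIdeal P.asIdeal (algebraMap S X) hker.symm
        commutes' := fun s => by simp [IsScalarTower.algebraMap_apply S X P.asIdeal.ResidueField] }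
    haveI : Nontrivial (p.asIdeal.ResidueField ⊗[S] X) :=
      (Algebra.TensorProduct.lift μ (IsScalarTower.toAlgHom S X P.asIdeal.ResidueField)
        fun _ _ => Commute.all _ _).toRingHom.domain_nontrivial
    exact (Algebra.TensorProduct.cancelBaseChange S p.asIdeal.ResidueField p.asIdeal.ResidueField (KSep S p) X).toEquiv.symm.nontrivial
  obtain ⟨M, hM⟩ := Ideal.exists_maximal B
  letI := Ideal.Quotient.field M
  haveI : Algebra.FormallyUnramified (KSep S p) (B ⧸ M) :=
    haveI : Algebra.FormallyUnramified B (B ⧸ M) :=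
      Algebra.FormallyUnramified.of_surjective (R := B) (A := B) (Algebra.ofId B (B ⧸ M)) Ideal.Quotient.mk_surjective
    Algebra.FormallyUnramified.comp (KSep S p) B (B ⧸ M)
  haveI : Algebra.IsSeparable (KSep S p) (B ⧸ M) := Algebra.FormallyUnramified.isSeparable _ _
  let e := AlgEquiv.ofBijective (Algebra.ofId (KSep S p) (B ⧸ M))
    ⟨(algebraMap (KSep S p) (B ⧸ M)).injective, IsSepClosed.algebraMap_surjective _ _⟩
  let σ : X →ₐ[S] KSep S p :=
    ((e.symm.toAlgHom.restrictScalars S).comp ((Ideal.Quotient.mkₐ (KSep S p) M).restrictScalars S)).comp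
      (Algebra.TensorProduct.includeRight : X →ₐ[S] B)
  obtain ⟨j, e', -⟩ := exists_idx_equiv X σ
  exact ⟨(toH (⟨j⟩ : IdxCat S (KSep S p))).comp e'.toAlgHom⟩

theorem isUnit_algebraMap_SH {p : PrimeSpectrum S} {s : S} (hs : s ∉ p.asIdeal) :
    IsUnit (algebraMap S (SH S p) s) := by
  rw [isUnit_iff, AlgHom.commutes]
  intro h
  rw [← RingHom.mem_ker, ker_algebraMap_KSep] at h
  exact hs h

variable {R : Type v} [CommRing R] [Algebra S R] {A : Type w} [Ring A] [Algebra S A] [Algebra R A]
  [IsScalarTower S R A] {A₂ : Type w₂} [Ring A₂] [Algebra S A₂] [Algebra R A₂] [IsScalarTower S R A₂]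
  {lam : R ≃ₐ[S] R}

/-- Orthogonal at `p`. -/
def OrthAt (t : AzInv.LamInv R A lam) (n : ℕ) (p : PrimeSpectrum S) : Prop :=
  ∃ E, Adapted t (1 : Matrix (Fin n) (Fin n) R) 1 E (X := SH S p)

/-- Symplectic at `p`. -/
def SympAt (t : AzInv.LamInv R A lam) (n : ℕ) (p : PrimeSpectrum S) : Prop :=
  ∃ E, Adapted t (JN n : Matrix (Fin n) (Fin n) R) (-JN n) E (X := SH S p)

theorem exists_unitDiff_of_notMem (hlam : ∀ r, lam (lam r) = r) {p : PrimeSpectrum S} {r : R} {s : S}
    (hs : s ∉ p.asIdeal) (h : algebraMap S R s = (r - lam r) * lam (r - lam r)) :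
    ∃ y : SH S p ⊗[S] R, IsUnit (y - lamX lam (SH S p) y) := by
  refine ⟨1 ⊗ₜ r, ?_⟩
  rw [Algebra.TensorProduct.congr_apply, Algebra.TensorProduct.map_tmul]
  refine isUnit_of_mul_isUnit_left (y := (1 : SH S p) ⊗ₜ[S] lam (r - lam r)) ?_
  show IsUnit (((1 : SH S p) ⊗ₜ[S] r - (1 : SH S p) ⊗ₜ[S] lam r) * _)
  rw [← TensorProduct.tmul_sub, Algebra.TensorProduct.tmul_mul_tmul, one_mul, ← h,
    show ((1 : SH S p) ⊗ₜ[S] algebraMap S R s) = algebraMap (SH S p) _ (algebraMap S (SH S p) s) by
      rw [Algebra.TensorProduct.algebraMap_apply, Algebra.algebraMap_self, RingHom.id_apply,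
        Algebra.algebraMap_eq_smul_one s, Algebra.algebraMap_eq_smul_one s, ← TensorProduct.smul_tmul]]
  exact (isUnit_algebraMap_SH hs).map _

theorem isQuadEtale_baseChange (S' : Type*) [CommRing S'] [Algebra S S'] (hq : RInv.IsQuadEtale S R) :
    RInv.IsQuadEtale S' (S' ⊗[S] R) := by
  obtain ⟨_, _, _, h⟩ := hq
  exact ⟨inferInstance, inferInstance, inferInstance, fun P => by rw [Module.rankAtStalk_baseChange, h]⟩

theorem exists_delta_of_isQuadEtale (hlam : ∀ r, lam (lam r) = r) (hfix : RInv.IsFixedRing S R lam.toRingEquiv)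
    (hq : RInv.IsQuadEtale S R) (p : PrimeSpectrum S) :
    ∃ (r : R) (s : S), s ∉ p.asIdeal ∧ algebraMap S R s = (r - lam r) * lam (r - lam r) :=
  (RInvLib.isQuadEtale_atPrime_iff (lam := lam.toRingEquiv) hlam hfix p).1 (isQuadEtale_baseChange _ hq)

theorem orthAt_of_delta (hlam : ∀ r, lam (lam r) = r) (hfix : RInv.IsFixedRing S R lam.toRingEquiv)
    (hsq : SqrtSH S) {n : ℕ} [NeZero n] (hA : AzInv.IsAzumayaDeg R A n) (t : AzInv.LamInv R A lam)
    {p : PrimeSpectrum S} (h : ∃ (r : R) (s : S), s ∉ p.asIdeal ∧ algebraMap S R s = (r - lam r) * lam (r - lam r)) :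
    OrthAt t n p := by
  obtain ⟨r, s, hs, h⟩ := h
  exact (exists_adapted_local hlam hfix hsq hA t p).1 (Or.inl (exists_unitDiff_of_notMem hlam hs h))

/-- A point is unbranched or carries a fixed prime. -/
theorem delta_or_ramified (hlam : ∀ r, lam (lam r) = r) (hfix : RInv.IsFixedRing S R lam.toRingEquiv)
    (p : PrimeSpectrum S) :
    (∃ (r : R) (s : S), s ∉ p.asIdeal ∧ algebraMap S R s = (r - lam r) * lam (r - lam r)) ∨
      ∃ q : PrimeSpectrum R, PrimeSpectrum.comap (algebraMap S R) q = p ∧ ∀ r, lam r - r ∈ q.asIdeal := by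
  by_cases h : ∃ (r : R) (s : S), s ∉ p.asIdeal ∧ algebraMap S R s = (r - lam r) * lam (r - lam r)
  · exact Or.inl h
  refine Or.inr ?_
  have hlam' : Function.Involutive lam.toRingEquiv := hlam
  haveI := RInvLib.isIntegral hlam' hfix
  obtain ⟨q, -, hq, hqp⟩ := Ideal.exists_ideal_over_prime_of_isIntegral p.asIdeal (⊥ : Ideal R)
    (fun x hx => by
      rw [Ideal.mem_comap, Ideal.mem_bot, ← (algebraMap S R).map_zero] at hx
      rw [hfix.1 hx]; exact p.asIdeal.zero_mem)
  refine ⟨⟨q, hq⟩, PrimeSpectrum.ext hqp, fun r => ?_⟩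
  obtain ⟨s, hs⟩ := RInvLib.exists_mul_lam hlam' hfix (r - lam r)
  have hsp : s ∈ p.asIdeal := by
    by_contra hsp
    exact h ⟨r, s, hsp, hs⟩
  rw [← hqp, Ideal.mem_comap, hs] at hsp
  have e : lam (r - lam r) = lam r - r := by rw [map_sub, hlam]
  rcases hq.mem_or_mem hsp with h1 | h1
  · simpa using q.neg_mem h1
  · rwa [show lam.toRingEquiv (r - lam r) = lam r - r from e] at h1

theorem eq_of_ramified (hlam : ∀ r, lam (lam r) = r) (hfix : RInv.IsFixedRing S R lam.toRingEquiv)
    {q : Ideal R} [q.IsPrime] (hram : ∀ r, lam r - r ∈ q) {q' : Ideal R} [q'.IsPrime]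
    (h : q'.comap (algebraMap S R) = q.comap (algebraMap S R)) : q' = q := by
  rcases RInvLib.eq_or_eq_comap (lam := lam.toRingEquiv) hlam hfix h with h' | h'
  · exact h'
  · refine h'.trans (Ideal.ext fun x => ⟨fun h1 => ?_, fun h1 => ?_⟩)
    · simpa using q.sub_mem (show lam x ∈ q from h1) (hram x)
    · show lam x ∈ q
      simpa using q.add_mem (hram x) h1

/-! ### Symmetric elements over a field -/

section Field

variable {K : Type*} [Field K] [Algebra R K]

variable (K) in
/-- The span of the images of the symmetric elements. -/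
def symSpace (t : AzInv.LamInv R A lam) : Submodule K (K ⊗[R] A) :=
  Submodule.span K (Set.range fun a : {a : A // t a = a} => (1 : K) ⊗ₜ[R] (a : A))

/-- The involution induced on the fibre. -/
def tK (t : AzInv.LamInv R A lam) (hK : ∀ r, algebraMap R K (lam r) = algebraMap R K r) :
    K ⊗[R] A →ₗ[K] K ⊗[R] A :=
  LinearMap.liftBaseChange K
    { toFun := fun a => (1 : K) ⊗ₜ[R] t a
      map_add' := fun a b => by rw [t.map_add, TensorProduct.tmul_add]
      map_smul' := fun r a => by
        rw [t.map_smul, RingHom.id_apply, ← TensorProduct.smul_tmul, TensorProduct.smul_tmul',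
          Algebra.smul_def, Algebra.smul_def, hK] }

theorem tK_tmul (t : AzInv.LamInv R A lam) (hK : ∀ r, algebraMap R K (lam r) = algebraMap R K r) (c : K) (a : A) :
    tK t hK (c ⊗ₜ[R] a) = c • ((1 : K) ⊗ₜ[R] t a) := by
  simp [tK]

theorem mem_symSpace_iff (t : AzInv.LamInv R A lam) (hK : ∀ r, algebraMap R K (lam r) = algebraMap R K r)
    (h2 : IsUnit (2 : S)) (x : K ⊗[R] A) : x ∈ symSpace K t ↔ tK t hK x = x := by
  constructor
  · intro hx
    induction hx using Submodule.span_induction with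
    | mem y hy =>
      obtain ⟨⟨a, ha⟩, rfl⟩ := hy
      rw [tK_tmul, one_smul, ha]
    | zero => exact map_zero _
    | add a b _ _ ha hb => rw [map_add, ha, hb]
    | smul c a _ ha => rw [map_smul, ha]
  · intro hx
    obtain ⟨half, hhalf⟩ := h2.exists_right_inv
    have h2R : algebraMap S R half * 2 = 1 := by
      rw [← map_ofNat (algebraMap S R) 2, ← map_mul, mul_comm, hhalf, map_one]
    have hP : ∀ z : K ⊗[R] A, algebraMap R K (algebraMap S R half) • (z + tK t hK z) ∈ symSpace K t := fun z => by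
      induction z using TensorProduct.induction_on with
      | zero => simp
      | add a b ha hb =>
        rw [map_add, add_add_add_comm, smul_add]
        exact add_mem ha hb
      | tmul c a =>
        have hfix : t (algebraMap S R half • (a + t a)) = algebraMap S R half • (a + t a) := by
          rw [t.map_smul, AlgEquiv.commutes, t.map_add, t.invol, add_comm]
        have e : algebraMap R K (algebraMap S R half) • (c ⊗ₜ[R] a + tK t hK (c ⊗ₜ[R] a)) =
            c • ((1 : K) ⊗ₜ[R] (algebraMap S R half • (a + t a))) := by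
          rw [tK_tmul, TensorProduct.tmul_smul, ← algebraMap_smul K (algebraMap S R half) ((1 : K) ⊗ₜ[R] (a + t a)),
            smul_comm c, TensorProduct.tmul_add, smul_add c, TensorProduct.smul_tmul' c (1 : K) a, smul_eq_mul,
            mul_one]
        rw [e]
        exact Submodule.smul_mem _ _ (Submodule.subset_span ⟨⟨_, hfix⟩, rfl⟩)
    have h1 := hP x
    rwa [hx, ← two_smul K x, smul_smul, ← map_ofNat (algebraMap R K) 2, ← map_mul, h2R, map_one, one_smul] at h1

/-- Field extensions do not change the dimension. -/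
theorem finrank_symSpace_ext (t : AzInv.LamInv R A lam) {L : Type*} [Field L] [Algebra R L] [Algebra K L]
    [IsScalarTower R K L] : Module.finrank L (symSpace L t) = Module.finrank K (symSpace K t) := by
  let e := TensorProduct.AlgebraTensorModule.cancelBaseChange R K L L A
  have h1 : Module.finrank L ((symSpace K t).baseChange L) = Module.finrank K (symSpace K t) := by
    rw [← (Submodule.toBaseChange.toLinearEquiv L (symSpace K t)).finrank_eq, Module.finrank_baseChange]
  rw [← h1, ← LinearEquiv.finrank_map_eq e ((symSpace K t).baseChange L)]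
  suffices h : symSpace L t = ((symSpace K t).baseChange L).map e.toLinearMap by rw [h]
  simp only [symSpace]
  rw [Submodule.baseChange_span, Submodule.map_span, ← Set.range_comp]
  rw [← Set.range_comp]
  congr 1
  refine Set.ext fun x => ?_
  simp [e, TensorProduct.AlgebraTensorModule.cancelBaseChange]

/-- Symmetric matrices. -/
theorem finrank_sym (n : ℕ) :
    Module.finrank K (LinearMap.eqLocus (Matrix.transposeLinearEquiv (Fin n) (Fin n) K K).toLinearMap LinearMap.id) =
      Nat.choose (n + 1) 2 := by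
  classical
  let e : (Sym2 (Fin n) → K) ≃ₗ[K]
      LinearMap.eqLocus (Matrix.transposeLinearEquiv (Fin n) (Fin n) K K).toLinearMap LinearMap.id :=
    { toFun := fun g => ⟨Matrix.of fun i j => g s(i, j), Matrix.ext fun i j => congrArg g Sym2.eq_swap⟩
      map_add' := fun g h => rfl
      map_smul' := fun c g => rfl
      invFun := fun M => Sym2.lift ⟨fun i j => M.1 i j, fun i j => (congrArg (fun N => N i j) M.2).symm⟩
      left_inv := fun g => funext fun z => by induction z using Sym2.ind; rfl
      right_inv := fun M => Subtype.ext (Matrix.ext fun i j => rfl) }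
  rw [← e.finrank_eq, Module.finrank_fintype_fun_eq_card, Sym2.card, Fintype.card_fin]

/-- Skew matrices, away from characteristic two. -/
theorem finrank_skew (n : ℕ) (h2 : (2 : K) ≠ 0) :
    Module.finrank K (LinearMap.eqLocus (Matrix.transposeLinearEquiv (Fin n) (Fin n) K K).toLinearMap
      (-LinearMap.id)) = Nat.choose n 2 := by
  classical
  let T := (Matrix.transposeLinearEquiv (Fin n) (Fin n) K K).toLinearMap
  have hTT : ∀ M, T (T M) = M := fun M => Matrix.transpose_transpose M
  let f := LinearMap.id + T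
  have hker : LinearMap.ker f = LinearMap.eqLocus T (-LinearMap.id) := by
    ext M
    rw [LinearMap.mem_ker, LinearMap.mem_eqLocus]
    simp only [f, LinearMap.add_apply, LinearMap.id_apply, LinearMap.neg_apply]
    rw [add_comm, add_eq_zero_iff_eq_neg]
  have hrange : LinearMap.range f = LinearMap.eqLocus T LinearMap.id := by
    refine le_antisymm ?_ fun M hM => ?_
    · rintro _ ⟨M, rfl⟩
      simp [LinearMap.mem_eqLocus, f, hTT, add_comm]
    · refine ⟨(2 : K)⁻¹ • M, ?_⟩
      rw [LinearMap.mem_eqLocus] at hM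
      simp only [f, LinearMap.add_apply, LinearMap.id_apply, map_smul, hM, ← smul_add, ← two_smul K M,
        smul_smul, inv_mul_cancel₀ h2, one_smul]
  have h := LinearMap.finrank_range_add_finrank_ker f
  rw [hker, hrange, finrank_sym, Module.finrank_matrix] at h
  simp only [Fintype.card_fin, Module.finrank_self, mul_one] at h
  have h3 : ∀ k, Nat.choose (k + 1) 2 + Nat.choose k 2 = k * k := fun k => by
    induction k with
    | zero => rfl
    | succ m ihm =>
      have e1 : (m + 1 + 1).choose 2 = (m + 1) + (m + 1).choose 2 :=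
        (Nat.choose_succ_succ (m + 1) 1).trans (by rw [Nat.choose_one_right])
      have e2 : (m + 1).choose 2 = m + m.choose 2 :=
        (Nat.choose_succ_succ m 1).trans (by rw [Nat.choose_one_right])
      rw [show (m + 1) * (m + 1) = m * m + 2 * m + 1 by ring]
      omega
  show Module.finrank K (LinearMap.eqLocus T (-LinearMap.id)) = _
  have := h3 n
  omega

theorem finrank_symSpace_of_units (t : AzInv.LamInv R A lam) (hK : ∀ r, algebraMap R K (lam r) = algebraMap R K r)
    (h2 : IsUnit (2 : S)) {n : ℕ} [NeZero n] (hA : AzInv.IsAzumayaDeg R A n) {E : Fin n → Fin n → K ⊗[R] A}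
    (hE : IsUnits E) (τ : Matrix (Fin n) (Fin n) K →ₗ[K] Matrix (Fin n) (Fin n) K)
    (hτ : ∀ i j, tK t hK (E i j) = unitsHom (T := K) hE (τ (Matrix.single i j 1))) :
    Module.finrank K (symSpace K t) = Module.finrank K (LinearMap.eqLocus τ LinearMap.id) := by
  classical
  let Φ := LinearEquiv.ofBijective (unitsHom (T := K) hE).toLinearMap (unitsHom_bijective hA hE)
  have hcomm : ∀ M, tK t hK (Φ M) = Φ (τ M) := fun M => by
    induction M using Matrix.induction_on' with
    | h_zero => simp
    | h_add p q hp hq => rw [map_add, map_add, hp, hq, map_add, map_add]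
    | h_std_basis i j c =>
      rw [show Matrix.single i j c = c • Matrix.single i j (1 : K) by rw [Matrix.smul_single, smul_eq_mul, mul_one],
        map_smul, map_smul, map_smul, map_smul]
      refine congrArg _ ?_
      show tK t hK (unitsHom hE _) = _
      rw [unitsHom_single, one_smul, hτ]
      rfl
  have : symSpace K t = (LinearMap.eqLocus τ LinearMap.id).map Φ.toLinearMap := by
    ext x
    obtain ⟨M, rfl⟩ := Φ.surjective x
    rw [mem_symSpace_iff t hK h2, hcomm, Φ.injective.eq_iff, Submodule.mem_map_equiv, LinearEquiv.symm_apply_apply,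
      LinearMap.mem_eqLocus, LinearMap.id_apply]
  rw [this, LinearEquiv.finrank_map_eq]

end Field

/-! ### Dimensions at a point with adapted units -/

section Point

variable {K : Type*} [Field K] [Algebra R K]

/-- The map to a fibre. -/
def toFibre {X : Type u} [CommRing X] [Algebra S X] (φ : X ⊗[S] R →ₐ[R] K) :
    X ⊗[S] A →+* K ⊗[R] A :=
  ((Algebra.TensorProduct.map φ (AlgHom.id R A)).toRingHom).comp (bridge (R := R) (A := A) X).symm.toRingHom

theorem toFibre_tmul {X : Type u} [CommRing X] [Algebra S X] (φ : X ⊗[S] R →ₐ[R] K) (s : X) (a : A) :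
    toFibre φ (s ⊗ₜ[S] a) = φ (s ⊗ₜ[S] (1 : R)) ⊗ₜ[R] a := rfl

theorem toFibre_rho {X : Type u} [CommRing X] [Algebra S X] (φ : X ⊗[S] R →ₐ[R] K) (x : X ⊗[S] R) :
    toFibre (A := A) φ (rho X x) = algebraMap K (K ⊗[R] A) (φ x) := by
  show Algebra.TensorProduct.map φ (AlgHom.id R A) ((bridge (R := R) (A := A) X).symm (rho X x)) = _
  rw [← bridge_algebraMap (R := R) (A := A) X, RingEquiv.symm_apply_apply, Algebra.TensorProduct.algebraMap_apply,
    Algebra.TensorProduct.map_tmul]
  simp [Algebra.TensorProduct.algebraMap_apply]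

theorem toFibre_bc {X : Type u} [CommRing X] [Algebra S X] (φ : X ⊗[S] R →ₐ[R] K)
    (hK : ∀ r, algebraMap R K (lam r) = algebraMap R K r) (t : AzInv.LamInv R A lam) (x : X ⊗[S] A) :
    toFibre φ (t.bc S lam X x) = tK t hK (toFibre φ x) := by
  induction x using TensorProduct.induction_on with
  | zero => simp
  | add a b ha hb => simp only [map_add, ha, hb]
  | tmul s a =>
    rw [AzInv.LamInv.bc_tmul, toFibre_tmul, toFibre_tmul, tK_tmul, TensorProduct.smul_tmul', smul_eq_mul, mul_one]

theorem finrank_symSpace_of_adapted {X : Type u} [CommRing X] [Algebra S X] (φ : X ⊗[S] R →ₐ[R] K)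
    (hK : ∀ r, algebraMap R K (lam r) = algebraMap R K r) (h2 : IsUnit (2 : S)) {n : ℕ} [NeZero n]
    (hA : AzInv.IsAzumayaDeg R A n) (t : AzInv.LamInv R A lam) {E : Fin n → Fin n → X ⊗[S] A} :
    (Adapted t (1 : Matrix (Fin n) (Fin n) R) 1 E → Module.finrank K (symSpace K t) = Nat.choose (n + 1) 2) ∧
      (Even n → Adapted t (JN n : Matrix (Fin n) (Fin n) R) (-JN n) E →
        Module.finrank K (symSpace K t) = Nat.choose n 2) := by
  classical
  have key : ∀ {w w' : Matrix (Fin n) (Fin n) R}, ∀ h : Adapted t w w' E, ∀ i j,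
      tK t hK (toFibre φ (E i j)) = unitsHom (T := K) (h.1.map (toFibre (A := A) φ))
        (w.map (algebraMap R K) * Matrix.single j i 1 * w'.map (algebraMap R K)) := by
    intro w w' h i j
    rw [← toFibre_bc, h.2, unitsHom_apply, map_sum]
    refine Finset.sum_congr rfl fun k _ => ?_
    rw [map_sum]
    refine Finset.sum_congr rfl fun l _ => ?_
    rw [map_mul, toFibre_rho, mul_single_mul_apply, Matrix.map_apply, Matrix.map_apply, mul_one, ← map_mul,
      Algebra.smul_def]
    congr 2
    exact φ.commutes _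
  constructor
  · intro h
    rw [finrank_symSpace_of_units t hK h2 hA (h.1.map (toFibre (A := A) φ))
      (Matrix.transposeLinearEquiv (Fin n) (Fin n) K K).toLinearMap fun i j => by
        rw [key h, Matrix.map_one _ (map_zero _) (map_one _), one_mul, mul_one]
        simp [Matrix.transpose_single]]
    exact finrank_sym n
  · intro hev h
    have h2K : (2 : K) ≠ 0 := by
      have := ((h2.map (algebraMap S R)).map (algebraMap R K)).ne_zero
      rwa [map_ofNat, map_ofNat] at this
    have hwT : (JN n : Matrix (Fin n) (Fin n) R).map (algebraMap R K) = JN n := by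
      ext a b
      simp only [Matrix.map_apply, JN, RInvLib.J₂]
      split_ifs
      · generalize (⟨a.val % 2, Nat.mod_lt _ (by norm_num)⟩ : Fin 2) = x
        generalize (⟨b.val % 2, Nat.mod_lt _ (by norm_num)⟩ : Fin 2) = y
        fin_cases x <;> fin_cases y <;> simp
      · exact map_zero _
    have hneg : (-JN n : Matrix (Fin n) (Fin n) R).map (algebraMap R K) = -JN n := by
      rw [← hwT]; ext a b; simp
    set J : Matrix (Fin n) (Fin n) K := JN n
    have hJ : J * -J = 1 := JN_mul_neg' hev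
    have hJ' : -J * J = 1 := mul_eq_one_comm.1 hJ
    let T := (Matrix.transposeLinearEquiv (Fin n) (Fin n) K K).toLinearMap
    have hJT : J.transpose = -J := by
      obtain ⟨k, rfl⟩ := hev.exists_two_nsmul n
      ext a b
      simp only [J, Matrix.transpose_apply, Matrix.neg_apply, JN]
      by_cases hab : a.val / 2 = b.val / 2
      · rw [if_pos hab, if_pos hab.symm]
        generalize (⟨a.val % 2, Nat.mod_lt _ (by norm_num)⟩ : Fin 2) = x
        generalize (⟨b.val % 2, Nat.mod_lt _ (by norm_num)⟩ : Fin 2) = y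
        fin_cases x <;> fin_cases y <;> simp [RInvLib.J₂]
      · rw [if_neg hab, if_neg (Ne.symm hab), neg_zero]
    let τ : Matrix (Fin n) (Fin n) K →ₗ[K] Matrix (Fin n) (Fin n) K :=
      (LinearMap.mulRight K (-J)).comp ((LinearMap.mulLeft K J).comp T)
    rw [finrank_symSpace_of_units t hK h2 hA (h.1.map (toFibre (A := A) φ)) τ fun i j => by
      rw [key h, hwT, hneg]
      simp [τ, T, J, Matrix.transpose_single]]
    let m : Matrix (Fin n) (Fin n) K ≃ₗ[K] Matrix (Fin n) (Fin n) K :=
      { LinearMap.mulRight K J with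
        invFun := fun M => M * -J
        left_inv := fun M => by
          show M * J * -J = M
          rw [mul_assoc, hJ, mul_one]
        right_inv := fun M => by
          show M * -J * J = M
          rw [mul_assoc, hJ', mul_one] }
    have hmap : (LinearMap.eqLocus τ LinearMap.id).map m.toLinearMap = LinearMap.eqLocus T (-LinearMap.id) := by
      ext N
      obtain ⟨M, rfl⟩ := m.surjective N
      rw [Submodule.mem_map_equiv, LinearEquiv.symm_apply_apply, LinearMap.mem_eqLocus, LinearMap.mem_eqLocus]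
      show J * M.transpose * -J = M ↔ (M * J).transpose = -(M * J)
      rw [Matrix.transpose_mul, hJT, neg_mul, neg_inj]
      constructor
      · intro hM
        conv_rhs => rw [← hM]
        rw [mul_assoc (J * M.transpose), hJ', mul_one]
      · intro hM
        rw [hM, mul_assoc, hJ, mul_one]
    rw [← LinearEquiv.finrank_map_eq m (LinearMap.eqLocus τ LinearMap.id), hmap]
    exact finrank_skew n h2K

end Point

/-- The dimension at a ramified prime detects the local type. -/
theorem dim_of_adapted (hlam : ∀ r, lam (lam r) = r) (hfix : RInv.IsFixedRing S R lam.toRingEquiv)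
    (h2 : IsUnit (2 : S)) {n : ℕ} [NeZero n] (hA : AzInv.IsAzumayaDeg R A n) (t : AzInv.LamInv R A lam)
    (q : PrimeSpectrum R) (hram : ∀ r, lam r - r ∈ q.asIdeal) :
    (OrthAt t n (PrimeSpectrum.comap (algebraMap S R) q) →
        Module.finrank q.asIdeal.ResidueField (symSpace q.asIdeal.ResidueField t) = Nat.choose (n + 1) 2) ∧
      (Even n → SympAt t n (PrimeSpectrum.comap (algebraMap S R) q) →
        Module.finrank q.asIdeal.ResidueField (symSpace q.asIdeal.ResidueField t) = Nat.choose n 2) := by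
  have hlam' : Function.Involutive lam.toRingEquiv := hlam
  set p := PrimeSpectrum.comap (algebraMap S R) q with hp
  have hfix' := RInvLib.isFixedRing_bcInv hlam' hfix (SH S p) (Or.inl inferInstance)
  haveI : Nontrivial (SH S p ⊗[S] R) := hfix'.1.nontrivial
  obtain ⟨Q, hQ⟩ := Ideal.exists_maximal (SH S p ⊗[S] R)
  haveI := hQ
  letI := Ideal.Quotient.field Q
  have hQp : (Q.comap (algebraMap R (SH S p ⊗[S] R))).comap (algebraMap S R) = p.asIdeal := by
    rw [Ideal.comap_comap, show (algebraMap R (SH S p ⊗[S] R)).comp (algebraMap S R) =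
      (algebraMap (SH S p) (SH S p ⊗[S] R)).comp (algebraMap S (SH S p)) from RingHom.ext fun s => by
        show (1 : SH S p) ⊗ₜ[S] algebraMap S R s = algebraMap S (SH S p) s ⊗ₜ[S] (1 : R)
        rw [Algebra.algebraMap_eq_smul_one s, Algebra.algebraMap_eq_smul_one s, ← TensorProduct.smul_tmul],
      ← Ideal.comap_comap, RInvLib.comap_maximal (RInvLib.bcInv_involutive hlam' hfix (SH S p)) hfix' Q]
    ext s
    rw [Ideal.mem_comap, mem_maximalIdeal_iff, AlgHom.commutes, ← RingHom.mem_ker, ker_algebraMap_KSep]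
  haveI hQprime := hQ.isPrime
  have hQq : Q.comap (algebraMap R (SH S p ⊗[S] R)) = q.asIdeal :=
    eq_of_ramified hlam hfix hram (hQp.trans rfl)
  let φ : SH S p ⊗[S] R →ₐ[R] (SH S p ⊗[S] R) ⧸ Q := Ideal.Quotient.mkₐ R Q
  have hker : ∀ x ∈ q.asIdeal, algebraMap R ((SH S p ⊗[S] R) ⧸ Q) x = 0 := fun x hx => by
    rw [← hQq] at hx
    exact Ideal.Quotient.eq_zero_iff_mem.2 hx
  have hK : ∀ r, algebraMap R ((SH S p ⊗[S] R) ⧸ Q) (lam r) = algebraMap R _ r := fun r => by
    rw [← sub_eq_zero, ← map_sub]; exact hker _ (hram r)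
  letI : Algebra q.asIdeal.ResidueField ((SH S p ⊗[S] R) ⧸ Q) :=
    (Ideal.ResidueField.lift q.asIdeal (algebraMap R ((SH S p ⊗[S] R) ⧸ Q)) hker
      fun x hx => by
        have hx' : x ∉ Q.comap (algebraMap R (SH S p ⊗[S] R)) := hQq.symm ▸ hx
        exact IsUnit.mk0 _ fun h0 => hx' (show algebraMap R (SH S p ⊗[S] R) x ∈ Q from
          Ideal.Quotient.eq_zero_iff_mem.1 h0)).toAlgebra
  haveI : IsScalarTower R q.asIdeal.ResidueField ((SH S p ⊗[S] R) ⧸ Q) :=
    .of_algebraMap_eq fun r => (Ideal.ResidueField.lift_algebraMap _ _ _ _ r).symm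
  rw [← finrank_symSpace_ext (K := q.asIdeal.ResidueField) t (L := (SH S p ⊗[S] R) ⧸ Q)]
  exact ⟨fun ⟨E, hE⟩ => (finrank_symSpace_of_adapted φ hK h2 hA t).1 hE,
    fun hev ⟨E, hE⟩ => (finrank_symSpace_of_adapted φ hK h2 hA t).2 hev hE⟩

theorem choose_succ_ne {n : ℕ} [NeZero n] : Nat.choose n 2 ≠ Nat.choose (n + 1) 2 := by
  have := NeZero.pos n
  have e : (n + 1).choose 2 = n + n.choose 2 :=
    (Nat.choose_succ_succ n 1).trans (by rw [Nat.choose_one_right])
  omega

theorem not_orth_and_symp (hlam : ∀ r, lam (lam r) = r) (hfix : RInv.IsFixedRing S R lam.toRingEquiv)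
    (h2 : IsUnit (2 : S)) {n : ℕ} [NeZero n] (hA : AzInv.IsAzumayaDeg R A n) (t : AzInv.LamInv R A lam)
    (q : PrimeSpectrum R) (hram : ∀ r, lam r - r ∈ q.asIdeal) (hev : Even n)
    (ho : OrthAt t n (PrimeSpectrum.comap (algebraMap S R) q))
    (hs : SympAt t n (PrimeSpectrum.comap (algebraMap S R) q)) : False := by
  obtain ⟨h1, h1'⟩ := dim_of_adapted hlam hfix h2 hA t q hram
  exact choose_succ_ne ((h1' hev hs).symm.trans (h1 ho))

theorem orth_or_symp (hlam : ∀ r, lam (lam r) = r) (hfix : RInv.IsFixedRing S R lam.toRingEquiv)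
    (h2 : IsUnit (2 : S)) {n : ℕ} [NeZero n] (hA : AzInv.IsAzumayaDeg R A n) (t : AzInv.LamInv R A lam)
    (p : PrimeSpectrum S) : OrthAt t n p ∨ (Even n ∧ SympAt t n p) :=
  (exists_adapted_local hlam hfix (sqrtSH_of_two h2) hA t p).2 h2

theorem orth_iff_dim (hlam : ∀ r, lam (lam r) = r) (hfix : RInv.IsFixedRing S R lam.toRingEquiv)
    (h2 : IsUnit (2 : S)) {n : ℕ} [NeZero n] (hA : AzInv.IsAzumayaDeg R A n) (t : AzInv.LamInv R A lam)
    (q : PrimeSpectrum R) (hram : ∀ r, lam r - r ∈ q.asIdeal) :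
    OrthAt t n (PrimeSpectrum.comap (algebraMap S R) q) ↔
      Module.finrank q.asIdeal.ResidueField (symSpace q.asIdeal.ResidueField t) = Nat.choose (n + 1) 2 := by
  refine ⟨(dim_of_adapted hlam hfix h2 hA t q hram).1, fun h => ?_⟩
  rcases orth_or_symp hlam hfix h2 hA t (PrimeSpectrum.comap (algebraMap S R) q) with ho | ⟨hev, hs⟩
  · exact ho
  · exact absurd (((dim_of_adapted hlam hfix h2 hA t q hram).2 hev hs).symm.trans h) choose_succ_ne

theorem mem_interior_of_adapted {t : AzInv.LamInv R A lam} {n : ℕ} {w w' : Matrix (Fin n) (Fin n) R}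
    {p : PrimeSpectrum S} (h : ∃ E, Adapted t w w' E (X := SH S p)) :
    ∃ U : Set (PrimeSpectrum S), IsOpen U ∧ p ∈ U ∧
      ∀ p' ∈ U, ∃ E, Adapted t w w' E (X := SH S p') := by
  obtain ⟨X, E, hE⟩ := exists_stage_adapted h
  haveI : Module.Flat S X.idx.S := Algebra.Smooth.flat S X.idx.S
  refine ⟨_, (PrimeSpectrum.isOpenMap_comap_of_hasGoingDown_of_finitePresentation (R := S) (S := X.idx.S)).isOpen_range,
    mem_range_comap_idx X, fun p' hp' => ?_⟩
  obtain ⟨g⟩ := exists_algHom_SH X.idx.S hp'
  exact ⟨_, hE.map g⟩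

theorem isOpen_orthAt (t : AzInv.LamInv R A lam) (n : ℕ) : IsOpen {p | OrthAt t n p} :=
  isOpen_iff_forall_mem_open.2 fun _ hp =>
    let ⟨U, hU, hpU, h⟩ := mem_interior_of_adapted hp
    ⟨U, h, hU, hpU⟩

theorem isOpen_sympAt (t : AzInv.LamInv R A lam) (n : ℕ) : IsOpen {p | SympAt t n p} :=
  isOpen_iff_forall_mem_open.2 fun _ hp =>
    let ⟨U, hU, hpU, h⟩ := mem_interior_of_adapted hp
    ⟨U, h, hU, hpU⟩

/-! ### Matrix algebras -/

theorem block_one (m n N : ℕ) (e : Fin m × Fin n ≃ Fin N) :
    ((Matrix.blockDiagonal fun _ : Fin m => (1 : Matrix (Fin n) (Fin n) R)).submatrix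
        (fun a => ((e.symm a).2, (e.symm a).1)) fun a => ((e.symm a).2, (e.symm a).1)) = 1 := by
  have := Matrix.blockDiagonal_one (m := Fin n) (o := Fin m) (α := R)
  rw [show (Matrix.blockDiagonal fun _ : Fin m => (1 : Matrix (Fin n) (Fin n) R)) = 1 from this]
  exact Matrix.submatrix_one _ fun a b h => e.symm.injective (Prod.ext (congrArg Prod.snd h) (congrArg Prod.fst h))

theorem block_JN (m n N : ℕ) (e : Fin m × Fin n ≃ Fin N) (hev : Even n)
    (he : ∀ j i, (e (j, i)).val = i.val + n * j.val) :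
    ((Matrix.blockDiagonal fun _ : Fin m => (JN n : Matrix (Fin n) (Fin n) R)).submatrix
        (fun a => ((e.symm a).2, (e.symm a).1)) fun a => ((e.symm a).2, (e.symm a).1)) = JN N := by
  obtain ⟨k, hk⟩ : ∃ k, n = 2 * k := ⟨n / 2, (Nat.two_mul_div_two_of_even hev).symm⟩
  subst hk
  ext a b
  obtain ⟨⟨x, i⟩, rfl⟩ := e.surjective a
  obtain ⟨⟨y, j⟩, rfl⟩ := e.surjective b
  have hi : i.val < 2 * k := i.isLt
  have hj : j.val < 2 * k := j.isLt
  have hx2 : (e (x, i)).val / 2 = k * x.val + i.val / 2 ∧ (e (x, i)).val % 2 = i.val % 2 := by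
    rw [he, mul_assoc]; omega
  have hy2 : (e (y, j)).val / 2 = k * y.val + j.val / 2 ∧ (e (y, j)).val % 2 = j.val % 2 := by
    rw [he, mul_assoc]; omega
  simp only [Matrix.submatrix_apply, Equiv.symm_apply_apply, Matrix.blockDiagonal_apply, JN, hx2, hy2]
  by_cases hxy : x = y
  · subst hxy; rw [if_pos rfl]
    exact if_congr ⟨fun h => by rw [h], fun h => by omega⟩ rfl rfl
  · rw [if_neg hxy, if_neg]
    intro h
    have hx' : (k * x.val + i.val / 2) / k = x.val := by
      rw [Nat.mul_add_div (by omega), Nat.div_eq_of_lt (by omega), add_zero]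
    have hy' : (k * y.val + j.val / 2) / k = y.val := by
      rw [Nat.mul_add_div (by omega), Nat.div_eq_of_lt (by omega), add_zero]
    rw [h, hy'] at hx'
    exact hxy (Fin.ext hx'.symm)

theorem orthAt_matrix (t : AzInv.LamInv R A lam) {n : ℕ} {p : PrimeSpectrum S} (m N : ℕ)
    (e : Fin m × Fin n ≃ Fin N) (h : OrthAt t n p) : OrthAt (t.matrix (Fin m)) N p := by
  obtain ⟨E, hE⟩ := h
  obtain ⟨E', hE'⟩ := adapted_matrix (X := SH S p) t e hE
  rw [block_one] at hE'
  exact ⟨E', hE'⟩

theorem sympAt_matrix (t : AzInv.LamInv R A lam) {n : ℕ} {p : PrimeSpectrum S} (m N : ℕ)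
    (e : Fin m × Fin n ≃ Fin N) (hev : Even n) (he : ∀ j i, (e (j, i)).val = i.val + n * j.val)
    (h : SympAt t n p) : SympAt (t.matrix (Fin m)) N p := by
  obtain ⟨E, hE⟩ := h
  obtain ⟨E', hE'⟩ := adapted_matrix (X := SH S p) t e hE
  have hneg : ((Matrix.blockDiagonal fun _ : Fin m => -(JN n : Matrix (Fin n) (Fin n) R)).submatrix
        (fun a => ((e.symm a).2, (e.symm a).1)) fun a => ((e.symm a).2, (e.symm a).1)) = -JN N := by
    rw [← block_JN m n N e hev he]
    ext a b
    simp only [Matrix.submatrix_apply, Matrix.blockDiagonal_apply, Matrix.neg_apply]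
    split_ifs <;> simp
  rw [block_JN m n N e hev he, hneg] at hE'
  exact ⟨E', hE'⟩

theorem isAzumayaDeg_matrix' {n : ℕ} [NeZero n] (hA : AzInv.IsAzumayaDeg R A n) (m N : ℕ) [NeZero m]
    (h : m * n = N) : AzInv.IsAzumayaDeg R (Matrix (Fin m) (Fin m) A) N :=
  h ▸ isAzumayaDeg_matrix hA m

theorem isoOver_to_fibre {X : Type u} [CommRing X] [Algebra S X] {K : Type*} [Field K] [Algebra R K]
    (φ : X ⊗[S] R →ₐ[R] K) (hK : ∀ r, algebraMap R K (lam r) = algebraMap R K r) (h2 : IsUnit (2 : S))
    {t : AzInv.LamInv R A lam} {t' : AzInv.LamInv R A₂ lam} (h : IsoOver X t t') :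
    Module.finrank K (symSpace K t) = Module.finrank K (symSpace K t') ∧
      Module.finrank K (K ⊗[R] A) = Module.finrank K (K ⊗[R] A₂) := by
  obtain ⟨f, hfr, hft⟩ := h
  have hfr' : ∀ (r : R) (y : X ⊗[S] A₂),
      f.symm (((1 : X) ⊗ₜ[S] algebraMap R A₂ r) * y) = ((1 : X) ⊗ₜ[S] algebraMap R A r) * f.symm y := fun r y => by
    rw [AlgEquiv.symm_apply_eq, hfr, AlgEquiv.apply_symm_apply]
  let lift1 : A →ₗ[R] K ⊗[R] A₂ :=
    { toFun := fun a => toFibre φ (f ((1 : X) ⊗ₜ[S] a))
      map_add' := fun a b => by rw [TensorProduct.tmul_add, map_add, map_add]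
      map_smul' := fun r a => by
        rw [RingHom.id_apply, smul_tmul_one, rho_algebraMap, hfr, ← rho_tmul, map_mul, toFibre_rho,
          ← algebraMap_smul K r (toFibre φ _), ← Algebra.smul_def]
        congr 1
        exact φ.commutes r }
  let lift2 : A₂ →ₗ[R] K ⊗[R] A :=
    { toFun := fun a => toFibre φ (f.symm ((1 : X) ⊗ₜ[S] a))
      map_add' := fun a b => by rw [TensorProduct.tmul_add, map_add, map_add]
      map_smul' := fun r a => by
        rw [RingHom.id_apply, smul_tmul_one, rho_algebraMap, hfr', ← rho_tmul, map_mul, toFibre_rho,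
          ← algebraMap_smul K r (toFibre φ _), ← Algebra.smul_def]
        congr 1
        exact φ.commutes r }
  have e1 : ∀ z : X ⊗[S] A, LinearMap.liftBaseChange K lift1 (toFibre φ z) = toFibre φ (f z) := fun z => by
    induction z using TensorProduct.induction_on with
    | zero => simp
    | add a b ha hb => simp only [map_add, ha, hb]
    | tmul s a =>
      rw [toFibre_tmul, LinearMap.liftBaseChange_tmul,
        show s ⊗ₜ[S] a = rho X (algebraMap X (X ⊗[S] R) s) * ((1 : X) ⊗ₜ[S] a) by
          rw [Algebra.TensorProduct.algebraMap_apply, rho_tmul, map_one, Algebra.TensorProduct.tmul_mul_tmul,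
            one_mul, mul_one, Algebra.algebraMap_self, RingHom.id_apply],
        map_mul, AlgHom.commutes, AlgEquiv.commutes, map_mul,
        show algebraMap X (X ⊗[S] A₂) s = rho X (algebraMap X (X ⊗[S] R) s) from ((rho (A := A₂) X).commutes s).symm,
        toFibre_rho, Algebra.smul_def]
      rfl
  have e2 : ∀ z : X ⊗[S] A₂, LinearMap.liftBaseChange K lift2 (toFibre φ z) = toFibre φ (f.symm z) := fun z => by
    induction z using TensorProduct.induction_on with
    | zero => simp
    | add a b ha hb => simp only [map_add, ha, hb]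
    | tmul s a =>
      rw [toFibre_tmul, LinearMap.liftBaseChange_tmul,
        show s ⊗ₜ[S] a = rho X (algebraMap X (X ⊗[S] R) s) * ((1 : X) ⊗ₜ[S] a) by
          rw [Algebra.TensorProduct.algebraMap_apply, rho_tmul, map_one, Algebra.TensorProduct.tmul_mul_tmul,
            one_mul, mul_one, Algebra.algebraMap_self, RingHom.id_apply],
        map_mul, AlgHom.commutes, AlgEquiv.commutes, map_mul,
        show algebraMap X (X ⊗[S] A) s = rho X (algebraMap X (X ⊗[S] R) s) from ((rho (A := A) X).commutes s).symm,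
        toFibre_rho, Algebra.smul_def]
      rfl
  have one_eq : ∀ b : A, toFibre φ ((1 : X) ⊗ₜ[S] b) = (1 : K) ⊗ₜ[R] b := fun b => by
    rw [toFibre_tmul, ← Algebra.TensorProduct.one_def, map_one]
  have one_eq' : ∀ b : A₂, toFibre φ ((1 : X) ⊗ₜ[S] b) = (1 : K) ⊗ₜ[R] b := fun b => by
    rw [toFibre_tmul, ← Algebra.TensorProduct.one_def, map_one]
  let g : K ⊗[R] A ≃ₗ[K] K ⊗[R] A₂ :=
    LinearEquiv.ofLinear (LinearMap.liftBaseChange K lift1) (LinearMap.liftBaseChange K lift2)
      (TensorProduct.AlgebraTensorModule.ext fun c a => by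
        rw [LinearMap.comp_apply, LinearMap.liftBaseChange_tmul, map_smul, LinearMap.id_apply]
        show c • LinearMap.liftBaseChange K lift1 (toFibre φ (f.symm ((1 : X) ⊗ₜ[S] a))) = _
        rw [e1, AlgEquiv.apply_symm_apply, one_eq', TensorProduct.smul_tmul', smul_eq_mul, mul_one])
      (TensorProduct.AlgebraTensorModule.ext fun c a => by
        rw [LinearMap.comp_apply, LinearMap.liftBaseChange_tmul, map_smul, LinearMap.id_apply]
        show c • LinearMap.liftBaseChange K lift2 (toFibre φ (f ((1 : X) ⊗ₜ[S] a))) = _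
        rw [e2, AlgEquiv.symm_apply_apply, one_eq, TensorProduct.smul_tmul', smul_eq_mul, mul_one])
  have hg : ∀ x, g (tK t hK x) = tK t' hK (g x) := fun x => by
    induction x using TensorProduct.induction_on with
    | zero => simp
    | add a b ha hb => simp only [map_add, ha, hb]
    | tmul c a =>
      rw [tK_tmul, map_smul]
      show c • LinearMap.liftBaseChange K lift1 ((1 : K) ⊗ₜ[R] t a) = tK t' hK (LinearMap.liftBaseChange K lift1 (c ⊗ₜ[R] a))
      rw [LinearMap.liftBaseChange_tmul, LinearMap.liftBaseChange_tmul, one_smul, map_smul]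
      refine congrArg (c • ·) ?_
      show toFibre φ (f ((1 : X) ⊗ₜ[S] t a)) = tK t' hK (toFibre φ (f ((1 : X) ⊗ₜ[S] a)))
      rw [← toFibre_bc, ← hft, AzInv.LamInv.bc_tmul]
  refine ⟨?_, g.finrank_eq⟩
  rw [← LinearEquiv.finrank_map_eq g (symSpace K t)]
  suffices h : (symSpace K t).map g.toLinearMap = symSpace K t' by rw [h]
  ext y
  obtain ⟨x, rfl⟩ := g.surjective y
  rw [Submodule.mem_map_equiv, LinearEquiv.symm_apply_apply, mem_symSpace_iff t hK h2, mem_symSpace_iff t' hK h2,
    ← hg, g.injective.eq_iff]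

/-- Same type forces the same local types at ramified points. -/
theorem orth_of_sameType (hlam : ∀ r, lam (lam r) = r) (hfix : RInv.IsFixedRing S R lam.toRingEquiv)
    (h2 : IsUnit (2 : S)) {n n' : ℕ} [NeZero n] [NeZero n'] (hA : AzInv.IsAzumayaDeg R A n)
    (hA' : AzInv.IsAzumayaDeg R A₂ n') {t : AzInv.LamInv R A lam} {t' : AzInv.LamInv R A₂ lam}
    (h : AzInv.SameType S lam t t') (q : PrimeSpectrum R) (hram : ∀ r, lam r - r ∈ q.asIdeal)
    (ho : OrthAt t n (PrimeSpectrum.comap (algebraMap S R) q)) :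
    OrthAt t' n' (PrimeSpectrum.comap (algebraMap S R) q) := by
  rcases orth_or_symp hlam hfix h2 hA' t' (PrimeSpectrum.comap (algebraMap S R) q) with ho' | ⟨hev, hs'⟩
  · exact ho'
  exfalso
  obtain ⟨m, m', hm, hm', S', _, _, _, _, f, hf1, hf2⟩ := h
  haveI : NeZero m := ⟨hm.ne'⟩
  haveI : NeZero m' := ⟨hm'.ne'⟩
  haveI : NeZero (m * n) := ⟨mul_ne_zero hm.ne' (NeZero.ne n)⟩
  haveI : NeZero (m' * n') := ⟨mul_ne_zero hm'.ne' (NeZero.ne n')⟩
  set p := PrimeSpectrum.comap (algebraMap S R) q
  obtain ⟨g⟩ := exists_algHom_SH (p := p) S' (PrimeSpectrum.comap_surjective_of_faithfullyFlat p)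
  -- the residue field of the strict henselization
  haveI hram' : Nontrivial (SH S p ⊗[S] R) :=
    (RInvLib.isFixedRing_bcInv (lam := lam.toRingEquiv) hlam hfix (SH S p) (Or.inl inferInstance)).1.nontrivial
  obtain ⟨Q, hQ⟩ := Ideal.exists_maximal (SH S p ⊗[S] R)
  haveI := hQ
  letI := Ideal.Quotient.field Q
  let φ : SH S p ⊗[S] R →ₐ[R] (SH S p ⊗[S] R) ⧸ Q := Ideal.Quotient.mkₐ R Q
  have hQp : (Q.comap (algebraMap R (SH S p ⊗[S] R))).comap (algebraMap S R) = p.asIdeal := by
    rw [Ideal.comap_comap, show (algebraMap R (SH S p ⊗[S] R)).comp (algebraMap S R) =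
      (algebraMap (SH S p) (SH S p ⊗[S] R)).comp (algebraMap S (SH S p)) from RingHom.ext fun s => by
        show (1 : SH S p) ⊗ₜ[S] algebraMap S R s = algebraMap S (SH S p) s ⊗ₜ[S] (1 : R)
        rw [Algebra.algebraMap_eq_smul_one s, Algebra.algebraMap_eq_smul_one s, ← TensorProduct.smul_tmul],
      ← Ideal.comap_comap, RInvLib.comap_maximal (RInvLib.bcInv_involutive (lam := lam.toRingEquiv) (show Function.Involutive lam.toRingEquiv from hlam) hfix (SH S p))
        (RInvLib.isFixedRing_bcInv (lam := lam.toRingEquiv) (show Function.Involutive lam.toRingEquiv from hlam) hfix (SH S p) (Or.inl inferInstance)) Q]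
    ext s
    rw [Ideal.mem_comap, mem_maximalIdeal_iff, AlgHom.commutes, ← RingHom.mem_ker, ker_algebraMap_KSep]
  haveI hQprime := hQ.isPrime
  have hQq : Q.comap (algebraMap R (SH S p ⊗[S] R)) = q.asIdeal := eq_of_ramified hlam hfix hram (hQp.trans rfl)
  have hK : ∀ r, algebraMap R ((SH S p ⊗[S] R) ⧸ Q) (lam r) = algebraMap R _ r := fun r => by
    rw [← sub_eq_zero, ← map_sub]
    exact Ideal.Quotient.eq_zero_iff_mem.2 (show lam r - r ∈ Q.comap (algebraMap R (SH S p ⊗[S] R)) from hQq.symm ▸ hram r)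
  let φ' : S' ⊗[S] R →ₐ[R] (SH S p ⊗[S] R) ⧸ Q :=
    φ.comp { toRingHom := (Algebra.TensorProduct.map g (AlgHom.id S R)).toRingHom
             commutes' := fun r => by
              show Algebra.TensorProduct.map g (AlgHom.id S R) ((1 : S') ⊗ₜ[S] r) = _
              rw [Algebra.TensorProduct.map_tmul, map_one]
              rfl }
  obtain ⟨hd, hN⟩ := isoOver_to_fibre φ' hK h2 (t := t.matrix (Fin m)) (t' := t'.matrix (Fin m')) ⟨f, hf1, hf2⟩
  obtain ⟨E, hE⟩ := orthAt_matrix t m (m * n) finProdFinEquiv ho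
  obtain ⟨E', hE'⟩ := sympAt_matrix t' m' (m' * n') finProdFinEquiv hev (fun j i => finProdFinEquiv_apply_val (j, i)) hs'
  have hAm := isAzumayaDeg_matrix' hA m (m * n) rfl
  have hAm' := isAzumayaDeg_matrix' hA' m' (m' * n') rfl
  rw [(finrank_symSpace_of_adapted φ hK h2 hAm (t.matrix (Fin m))).1 hE,
    (finrank_symSpace_of_adapted φ hK h2 hAm' (t'.matrix (Fin m'))).2 (hev.mul_left m') hE'] at hd
  rw [finrank_fibre hAm, finrank_fibre hAm'] at hN
  have hNN : m * n = m' * n' := Nat.pow_left_injective two_ne_zero hN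
  rw [hNN] at hd
  exact choose_succ_ne hd.symm

end

end Groth.Agent.AzInvLib
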