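import Groth.Agent.AzInvLib.Bridge
import Groth.Agent.AzumayaAlg.Descent
import Groth.Agent.RInvLib.Hermitian

/-!
# Matrix units adapted to an involution
-/

set_option autoImplicit false

open scoped TensorProduct

namespace Groth.Agent.AzInvLib

universe u v w w₂ u'

noncomputable section

attribute [local instance] Algebra.TensorProduct.rightAlgebra

open RInvLib (ct)

variable {S : Type u} [CommRing S] {R : Type v} [CommRing R] [Algebra S R]
  {A : Type w} [Ring A] [Algebra S A] [Algebra R A] [IsScalarTower S R A]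
  {A₂ : Type w₂} [Ring A₂] [Algebra S A₂] [Algebra R A₂] [IsScalarTower S R A₂]
  (lam : R ≃ₐ[S] R)

/-- The involution on `X ⊗ R`. -/
abbrev lamX (X : Type u') [CommRing X] [Algebra S X] : X ⊗[S] R ≃ₐ[X] X ⊗[S] R :=
  Algebra.TensorProduct.congr (AlgEquiv.refl : X ≃ₐ[X] X) lam

variable {lam}

theorem lamX_lamX (hlam : ∀ r, lam (lam r) = r) (X : Type u') [CommRing X] [Algebra S X] :
    Function.Involutive (lamX lam X).toRingEquiv := fun x => by
  show lamX lam X (lamX lam X x) = x
  induction x using TensorProduct.induction_on with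
  | zero => simp
  | add x y hx hy => rw [map_add, map_add, hx, hy]
  | tmul s r => simp [hlam]

variable (X : Type u') [CommRing X] [Algebra S X]

theorem bc_mul (t : AzInv.LamInv R A lam) (x y : X ⊗[S] A) :
    t.bc S lam X (x * y) = t.bc S lam X y * t.bc S lam X x := by
  induction x using TensorProduct.induction_on with
  | zero => simp
  | add a b ha hb => rw [add_mul, map_add, map_add, ha, hb, mul_add]
  | tmul s a =>
    induction y using TensorProduct.induction_on with
    | zero => simp
    | add c d hc hd => rw [mul_add, map_add, map_add, hc, hd, add_mul]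
    | tmul c b =>
      rw [Algebra.TensorProduct.tmul_mul_tmul, AzInv.LamInv.bc_tmul, AzInv.LamInv.bc_tmul, AzInv.LamInv.bc_tmul,
        Algebra.TensorProduct.tmul_mul_tmul, t.map_mul, mul_comm s c]

theorem bc_bc (t : AzInv.LamInv R A lam) (x : X ⊗[S] A) : t.bc S lam X (t.bc S lam X x) = x := by
  induction x using TensorProduct.induction_on with
  | zero => simp
  | add a b ha hb => rw [map_add, map_add, ha, hb]
  | tmul s a => rw [AzInv.LamInv.bc_tmul, AzInv.LamInv.bc_tmul, t.invol]

theorem bc_one (t : AzInv.LamInv R A lam) : t.bc S lam X 1 = 1 := by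
  rw [Algebra.TensorProduct.one_def, AzInv.LamInv.bc_tmul, t.map_one]

theorem bc_rho (t : AzInv.LamInv R A lam) (x : X ⊗[S] R) :
    t.bc S lam X (rho X x) = rho X (lamX lam X x) := by
  induction x using TensorProduct.induction_on with
  | zero => simp
  | add a b ha hb => rw [map_add, map_add, ha, hb, map_add, map_add]
  | tmul s r =>
    rw [rho_tmul, AzInv.LamInv.bc_tmul, t.map_algebraMap, Algebra.TensorProduct.congr_apply,
      Algebra.TensorProduct.map_tmul]
    rfl

theorem bc_rho_mul (t : AzInv.LamInv R A lam) (x : X ⊗[S] R) (z : X ⊗[S] A) :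
    t.bc S lam X (rho X x * z) = rho X (lamX lam X x) * t.bc S lam X z := by
  rw [bc_mul, bc_rho, rho_commute]

theorem tmap_rho {X Y : Type u} [CommRing X] [Algebra S X] [CommRing Y] [Algebra S Y] (g : X →ₐ[S] Y)
    (r : R) : tmap A g (rho X ((1 : X) ⊗ₜ[S] r)) = rho Y ((1 : Y) ⊗ₜ[S] r) := by
  rw [rho_tmul, rho_tmul, tmap_eq, Algebra.TensorProduct.map_tmul, map_one]
  rfl

theorem tmap_bc {X Y : Type u} [CommRing X] [Algebra S X] [CommRing Y] [Algebra S Y] (g : X →ₐ[S] Y)
    (t : AzInv.LamInv R A lam) (z : X ⊗[S] A) :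
    tmap A g (t.bc S lam X z) = t.bc S lam Y (tmap A g z) := by
  rw [tmap_eq, tmap_eq]
  induction z using TensorProduct.induction_on with
  | zero => simp
  | add a b ha hb => simp only [map_add, ha, hb]
  | tmul s a => simp

variable {X}

/-- The ring isomorphism attached to matrix units. -/
def unitsIso {n : ℕ} [NeZero n] (hA : AzInv.IsAzumayaDeg R A n) {E : Fin n → Fin n → X ⊗[S] A}
    (hE : IsUnits E) : Matrix (Fin n) (Fin n) (X ⊗[S] R) ≃+* X ⊗[S] A :=
  have hE' : IsUnits fun i j => (bridge (R := R) (A := A) X).symm (E i j) :=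
    ⟨fun i j k l => (bridge (R := R) (A := A) X).injective (by
      rw [map_mul, RingEquiv.apply_symm_apply, RingEquiv.apply_symm_apply, hE.1, apply_ite (bridge (R := R) (A := A) X),
        map_zero, RingEquiv.apply_symm_apply]),
      (bridge (R := R) (A := A) X).injective (by
        rw [map_sum, map_one]; simp only [RingEquiv.apply_symm_apply]; exact hE.2)⟩
  ((AlgEquiv.ofBijective (unitsHom (T := X ⊗[S] R) hE') (unitsHom_bijective hA hE')).toRingEquiv).trans
    (bridge (R := R) (A := A) X)

theorem unitsIso_apply {n : ℕ} [NeZero n] (hA : AzInv.IsAzumayaDeg R A n) {E : Fin n → Fin n → X ⊗[S] A}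
    (hE : IsUnits E) (M : Matrix (Fin n) (Fin n) (X ⊗[S] R)) :
    unitsIso hA hE M = ∑ i, ∑ j, rho X (M i j) * E i j := by
  show bridge (R := R) (A := A) X (∑ i, ∑ j, M i j • (bridge (R := R) (A := A) X).symm (E i j)) = _
  simp only [map_sum]
  refine Finset.sum_congr rfl fun i _ => Finset.sum_congr rfl fun j _ => ?_
  refine (congrArg (bridge (R := R) (A := A) X)
    (Algebra.smul_def (M i j) ((bridge (R := R) (A := A) X).symm (E i j)))).trans ?_
  refine (map_mul (bridge (R := R) (A := A) X) _ _).trans ?_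
  rw [bridge_algebraMap, RingEquiv.apply_symm_apply]

theorem unitsIso_single {n : ℕ} [NeZero n] (hA : AzInv.IsAzumayaDeg R A n) {E : Fin n → Fin n → X ⊗[S] A}
    (hE : IsUnits E) (i j : Fin n) (c : X ⊗[S] R) :
    unitsIso hA hE (Matrix.single i j c) = rho X c * E i j := by
  classical
  simp [unitsIso_apply, Matrix.single_apply, apply_ite (rho (A := A) X), ite_mul, ite_and]

theorem unitsIso_scalar {n : ℕ} [NeZero n] (hA : AzInv.IsAzumayaDeg R A n) {E : Fin n → Fin n → X ⊗[S] A}
    (hE : IsUnits E) (c : X ⊗[S] R) :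
    unitsIso hA hE (Matrix.scalar (Fin n) c) = rho X c := by
  classical
  simp [unitsIso_apply, Matrix.scalar_apply, Matrix.diagonal_apply, apply_ite (rho (A := A) X), ite_mul,
    ← Finset.mul_sum, hE.2]

theorem mul_single_mul_apply {K : Type*} [CommRing K] {n : ℕ} (P Q : Matrix (Fin n) (Fin n) K) (i j : Fin n)
    (c : K) (k l : Fin n) : (P * Matrix.single j i c * Q) k l = P k j * c * Q i l := by
  simp [Matrix.mul_apply, Matrix.single_apply, ite_and]

theorem ct_single {K : Type*} [CommRing K] (σ : K ≃+* K) {n : ℕ} (i j : Fin n) (c : K) :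
    ct σ (Matrix.single i j c) = Matrix.single j i (σ c) := by
  ext a b
  simp only [RInvLib.ct_apply, Matrix.single_apply]
  split_ifs <;> simp_all

/-- A matrix over `R` seen over `X ⊗ R`. -/
abbrev wT (X : Type u') [CommRing X] [Algebra S X] {n : Type*} (w : Matrix n n R) : Matrix n n (X ⊗[S] R) :=
  w.map fun r => (1 : X) ⊗ₜ[S] r

/-- Matrix units on which `t` acts as `M ↦ w (lamᵗ M) w'`. -/
def Adapted (t : AzInv.LamInv R A lam) {n : ℕ} (w w' : Matrix (Fin n) (Fin n) R)
    (E : Fin n → Fin n → X ⊗[S] A) : Prop :=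
  IsUnits E ∧ ∀ i j, t.bc S lam X (E i j) = ∑ k, ∑ l, rho X ((1 : X) ⊗ₜ[S] (w k j * w' i l)) * E k l

theorem Adapted.map {X Y : Type u} [CommRing X] [Algebra S X] [CommRing Y] [Algebra S Y] (g : X →ₐ[S] Y)
    {t : AzInv.LamInv R A lam} {n : ℕ} {w w' : Matrix (Fin n) (Fin n) R} {E : Fin n → Fin n → X ⊗[S] A}
    (h : Adapted t w w' E) : Adapted t w w' fun i j => tmap A g (E i j) := by
  refine ⟨⟨fun i j k l => ?_, ?_⟩, fun i j => ?_⟩
  · have := congrArg (Algebra.TensorProduct.map g (AlgHom.id S A)) (h.1.1 i j k l)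
    rwa [map_mul, apply_ite (Algebra.TensorProduct.map g (AlgHom.id S A)), map_zero] at this
  · have := congrArg (Algebra.TensorProduct.map g (AlgHom.id S A)) h.1.2
    rwa [map_sum, map_one] at this
  · rw [← tmap_bc, h.2, map_sum]
    refine Finset.sum_congr rfl fun k _ => ?_
    rw [map_sum]
    refine Finset.sum_congr rfl fun l _ => ?_
    rw [tmap_eq, map_mul, ← tmap_eq, ← tmap_eq, tmap_rho]

theorem Adapted.apply {t : AzInv.LamInv R A lam} {n : ℕ} [NeZero n] (hA : AzInv.IsAzumayaDeg R A n)
    {w w' : Matrix (Fin n) (Fin n) R} {E : Fin n → Fin n → X ⊗[S] A} (h : Adapted t w w' E)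
    (M : Matrix (Fin n) (Fin n) (X ⊗[S] R)) :
    t.bc S lam X (unitsIso hA h.1 M) =
      unitsIso hA h.1 (wT X w * ct (lamX lam X).toRingEquiv M * wT X w') := by
  classical
  induction M using Matrix.induction_on' with
  | h_zero => simp [show ct (lamX lam X).toRingEquiv (0 : Matrix (Fin n) (Fin n) (X ⊗[S] R)) = 0 by
      ext; simp [RInvLib.ct_apply]]
  | h_add p q hp hq => rw [map_add, map_add, hp, hq, ← map_add, RInvLib.ct_add, mul_add, add_mul]
  | h_std_basis i j c =>
    rw [unitsIso_single, bc_rho_mul, h.2, unitsIso_apply, Finset.mul_sum]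
    refine Finset.sum_congr rfl fun k _ => ?_
    rw [Finset.mul_sum]
    refine Finset.sum_congr rfl fun l _ => ?_
    rw [← mul_assoc, ← map_mul]
    congr 2
    rw [ct_single, mul_single_mul_apply]
    show _ = ((1 : X) ⊗ₜ[S] w k j) * lamX lam X c * ((1 : X) ⊗ₜ[S] w' i l)
    rw [show ((1 : X) ⊗ₜ[S] (w k j * w' i l)) = ((1 : X) ⊗ₜ[S] w k j) * ((1 : X) ⊗ₜ[S] w' i l) by
      rw [Algebra.TensorProduct.tmul_mul_tmul, one_mul]]
    ring

/-- Changing the matrix units. -/
theorem exists_adapted_of_twist {t : AzInv.LamInv R A lam} {n : ℕ} [NeZero n] (hA : AzInv.IsAzumayaDeg R A n)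
    {w w' : Matrix (Fin n) (Fin n) R} {E : Fin n → Fin n → X ⊗[S] A} (hE : IsUnits E)
    (h h' u u' : Matrix (Fin n) (Fin n) (X ⊗[S] R))
    (ht : ∀ M, t.bc S lam X (unitsIso hA hE M) = unitsIso hA hE (h * ct (lamX lam X).toRingEquiv M * h'))
    (hu : u' * u = 1) (h1 : h * ct (lamX lam X).toRingEquiv u' = u * wT X w)
    (h2 : ct (lamX lam X).toRingEquiv u * h' = wT X w' * u') :
    ∃ E' : Fin n → Fin n → X ⊗[S] A, Adapted t w w' E' := by
  classical
  have hu' : u * u' = 1 := mul_eq_one_comm.1 hu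
  refine ⟨fun i j => unitsIso hA hE (u * Matrix.single i j 1 * u'), ⟨fun i j k l => ?_, ?_⟩, fun i j => ?_⟩
  · rw [← map_mul, show u * Matrix.single i j (1 : X ⊗[S] R) * u' * (u * Matrix.single k l 1 * u') =
      u * (Matrix.single i j 1 * Matrix.single k l 1) * u' by
      rw [show ∀ a b c d e f : Matrix (Fin n) (Fin n) (X ⊗[S] R), a * b * c * (d * e * f) = a * (b * (c * d) * e) * f
        from fun a b c d e f => by simp only [mul_assoc], hu, mul_one]]
    by_cases hjk : j = k
    · subst hjk; rw [if_pos rfl, Matrix.single_mul_single_same, mul_one]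
    · rw [if_neg hjk, Matrix.single_mul_single_of_ne _ _ _ _ hjk, mul_zero, zero_mul, map_zero]
  · rw [← map_sum, ← Finset.sum_mul, ← Finset.mul_sum,
      show ∑ i : Fin n, Matrix.single i i (1 : X ⊗[S] R) = 1 by
        ext a b; simp [Matrix.sum_apply, Matrix.single_apply, Matrix.one_apply, ite_and],
      mul_one, hu', map_one]
  · rw [ht, RInvLib.ct_mul, RInvLib.ct_mul,
      show ct (lamX lam X).toRingEquiv (Matrix.single i j (1 : X ⊗[S] R)) = Matrix.single j i 1 by
        rw [ct_single, map_one],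
      ← mul_assoc, ← mul_assoc, h1]
    rw [show u * wT X w * Matrix.single j i 1 * ct (lamX lam X).toRingEquiv u * h' =
      u * (wT X w * Matrix.single j i 1 * wT X w') * u' by simp only [mul_assoc, h2],
      Matrix.matrix_eq_sum_single (wT X w * Matrix.single j i 1 * wT X w')]
    simp only [Finset.mul_sum, Finset.sum_mul, map_sum]
    refine Finset.sum_congr rfl fun k _ => Finset.sum_congr rfl fun l _ => ?_
    rw [← unitsIso_scalar hA hE, ← map_mul]
    congr 1
    rw [mul_single_mul_apply, show wT X w k j * 1 * wT X w' i l = (1 : X) ⊗ₜ[S] (w k j * w' i l) by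
      simp [Algebra.TensorProduct.tmul_mul_tmul]]
    rw [Matrix.scalar_apply, ← Matrix.smul_eq_diagonal_mul, ← smul_mul_assoc, ← mul_smul_comm, Matrix.smul_single,
      smul_eq_mul, mul_one]

variable (X) in
/-- Isomorphism of algebras with involution over `X`. -/
def IsoOver (t : AzInv.LamInv R A lam) (t' : AzInv.LamInv R A₂ lam) : Prop :=
  ∃ f : X ⊗[S] A ≃ₐ[X] X ⊗[S] A₂,
    (∀ (r : R) (x : X ⊗[S] A),
        f (((1 : X) ⊗ₜ[S] algebraMap R A r) * x) = ((1 : X) ⊗ₜ[S] algebraMap R A₂ r) * f x) ∧
      ∀ x : X ⊗[S] A, f (t.bc S lam X x) = t'.bc S lam X (f x)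

theorem isoOver_of_adapted {t : AzInv.LamInv R A lam} {t' : AzInv.LamInv R A₂ lam} {n : ℕ} [NeZero n]
    (hA : AzInv.IsAzumayaDeg R A n) (hA₂ : AzInv.IsAzumayaDeg R A₂ n)
    {w w' : Matrix (Fin n) (Fin n) R} {E : Fin n → Fin n → X ⊗[S] A} {E₂ : Fin n → Fin n → X ⊗[S] A₂}
    (h : Adapted t w w' E) (h₂ : Adapted t' w w' E₂) : IsoOver X t t' := by
  let g := (unitsIso hA h.1).symm.trans (unitsIso hA₂ h₂.1)
  have hg : ∀ x : X ⊗[S] R, g (rho (A := A) X x) = rho (A := A₂) X x := fun x => by
    show unitsIso hA₂ h₂.1 ((unitsIso hA h.1).symm (rho X x)) = _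
    rw [← unitsIso_scalar hA h.1, RingEquiv.symm_apply_apply, unitsIso_scalar]
  refine ⟨AlgEquiv.ofRingEquiv (f := g) fun s => ?_, fun r x => ?_, fun x => ?_⟩
  · rw [show algebraMap X (X ⊗[S] A) s = rho X (algebraMap X (X ⊗[S] R) s) from ((rho (A := A) X).commutes s).symm, hg]
    exact (rho (A := A₂) X).commutes s
  · show g (_ * x) = _ * g x
    rw [map_mul, ← rho_tmul, hg]
    rfl
  · show g _ = t'.bc S lam X (g x)
    obtain ⟨M, rfl⟩ := (unitsIso hA h.1).surjective x
    rw [h.apply hA]
    show unitsIso hA₂ h₂.1 ((unitsIso hA h.1).symm _) = t'.bc S lam X (unitsIso hA₂ h₂.1 ((unitsIso hA h.1).symm _))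
    rw [RingEquiv.symm_apply_apply, RingEquiv.symm_apply_apply, h₂.apply hA₂]

/-- Detection of elements by the projections of a finite product. -/
theorem eq_of_forall_tmap {M : Type w} [AddCommGroup M] [Module S M] {n : ℕ} (X : Fin n → Type u)
    [∀ i, CommRing (X i)] [∀ i, Algebra S (X i)] {z z' : (Π i, X i) ⊗[S] M}
    (h : ∀ i, tmap M (Pi.evalAlgHom S X i) z = tmap M (Pi.evalAlgHom S X i) z') : z = z' := by
  classical
  have hid : (LinearMap.id : (Π j, X j) →ₗ[S] (Π j, X j)) =
      ∑ i, LinearMap.single S X i ∘ₗ (Pi.evalAlgHom S X i).toLinearMap :=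
    LinearMap.ext fun y => by
      rw [LinearMap.id_apply, LinearMap.sum_apply]
      simp [Finset.univ_sum_single]
  have hrec : ∀ z : (Π i, X i) ⊗[S] M,
      z = ∑ i, LinearMap.rTensor M (LinearMap.single S X i) (tmap M (Pi.evalAlgHom S X i) z) := fun z => by
    conv_lhs => rw [← LinearMap.id_apply (R := S) z, ← LinearMap.rTensor_id, hid, ← LinearMap.coe_rTensorHom,
      map_sum, LinearMap.sum_apply]
    refine Finset.sum_congr rfl fun i _ => ?_
    rw [LinearMap.coe_rTensorHom, LinearMap.rTensor_comp]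
    rfl
  rw [hrec z, hrec z']
  simp only [h]

theorem exists_map_eq {M : Type w} [AddCommGroup M] [Module S M] {n : ℕ} (X : Fin n → Type u)
    [∀ i, CommRing (X i)] [∀ i, Algebra S (X i)] (z : ∀ i, X i ⊗[S] M) :
    ∃ Z : (Π i, X i) ⊗[S] M, ∀ i, tmap M (Pi.evalAlgHom S X i) Z = z i := by
  classical
  refine ⟨∑ i, LinearMap.rTensor M (LinearMap.single S X i) (z i), fun i => ?_⟩
  rw [map_sum, Finset.sum_eq_single i]
  · rw [tmap, ← LinearMap.comp_apply, ← LinearMap.rTensor_comp,
      show (Pi.evalAlgHom S X i).toLinearMap ∘ₗ LinearMap.single S X i = LinearMap.id from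
        LinearMap.ext fun y => by simp,
      LinearMap.rTensor_id, LinearMap.id_apply]
  · intro j _ hji
    rw [tmap, ← LinearMap.comp_apply, ← LinearMap.rTensor_comp,
      show (Pi.evalAlgHom S X i).toLinearMap ∘ₗ LinearMap.single S X j = 0 from LinearMap.ext fun y => by
        simp [Pi.single_eq_of_ne hji.symm],
      LinearMap.rTensor_zero, LinearMap.zero_apply]
  · simp

/-- Isomorphisms on étale neighbourhoods of all points give a local isomorphism. -/
theorem locIsoEt_of_isoOver {t : AzInv.LamInv R A lam} {t' : AzInv.LamInv R A₂ lam}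
    (h : ∀ p : PrimeSpectrum S, ∃ (X : Type u) (_ : CommRing X) (_ : Algebra S X) (_ : Algebra.Etale S X),
      p ∈ Set.range (PrimeSpectrum.comap (algebraMap S X)) ∧ IsoOver X t t') :
    AzInv.LocIsoEt S lam t t' := by
  obtain ⟨S', h1, h2, h3, h4, f, hf⟩ := exists_cover (fun X _ _ => IsoOver X t t') h fun n X _ _ hX => by
    choose f hfr hft using hX
    choose F hF using fun z : (Π i, X i) ⊗[S] A =>
      exists_map_eq X fun i => f i (tmap A (Pi.evalAlgHom S X i) z)
    choose G hG using fun z : (Π i, X i) ⊗[S] A₂ =>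
      exists_map_eq X fun i => (f i).symm (tmap A₂ (Pi.evalAlgHom S X i) z)
    let e : (Π i, X i) ⊗[S] A ≃+* (Π i, X i) ⊗[S] A₂ :=
      { toFun := F
        invFun := G
        left_inv := fun z => eq_of_forall_tmap X fun i => by rw [hG, hF, AlgEquiv.symm_apply_apply]
        right_inv := fun z => eq_of_forall_tmap X fun i => by rw [hF, hG, AlgEquiv.apply_symm_apply]
        map_mul' := fun a b => eq_of_forall_tmap X fun i => by
          rw [hF, tmap_eq, map_mul, map_mul, tmap_eq, map_mul, ← tmap_eq, ← tmap_eq, ← tmap_eq, ← tmap_eq,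
            hF, hF]
        map_add' := fun a b => eq_of_forall_tmap X fun i => by
          rw [hF, map_add, map_add, map_add, hF, hF] }
    have hone : ∀ i (s : Π i, X i), tmap A (Pi.evalAlgHom S X i) (algebraMap _ _ s) = algebraMap (X i) _ (s i) :=
      fun i s => rfl
    have hone' : ∀ i (s : Π i, X i), tmap A₂ (Pi.evalAlgHom S X i) (algebraMap _ _ s) = algebraMap (X i) _ (s i) :=
      fun i s => rfl
    refine ⟨AlgEquiv.ofRingEquiv (f := e) fun s => eq_of_forall_tmap X fun i => ?_, fun r x => ?_, fun x => ?_⟩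
    · show tmap A₂ _ (F _) = _
      rw [hF, hone, hone', AlgEquiv.commutes]
    · refine eq_of_forall_tmap X fun i => ?_
      show tmap A₂ _ (F _) = tmap A₂ _ (_ * F x)
      rw [hF, tmap_eq, map_mul, Algebra.TensorProduct.map_tmul, map_one, AlgHom.id_apply, hfr,
        tmap_eq (A := A₂), map_mul, Algebra.TensorProduct.map_tmul, map_one, AlgHom.id_apply,
        ← tmap_eq, ← tmap_eq, hF]
    · refine eq_of_forall_tmap X fun i => ?_
      show tmap A₂ _ (F _) = tmap A₂ _ (t'.bc S lam _ (F x))
      rw [hF, tmap_bc, tmap_bc, hF, hft]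
  exact ⟨S', h1, h2, h3, h4, f, hf⟩

variable (X)

/-- The tautological units of a matrix algebra are adapted to a twisted transpose. -/
theorem adapted_std {n : ℕ} (t : AzInv.LamInv R (Matrix (Fin n) (Fin n) R) lam)
    (w w' : Matrix (Fin n) (Fin n) R)
    (ht : ∀ i j, t (Matrix.single i j 1) = w * Matrix.single j i 1 * w') :
    Adapted t w w' fun i j => (1 : X) ⊗ₜ[S] Matrix.single i j (1 : R) := by
  classical
  refine ⟨⟨fun i j k l => ?_, ?_⟩, fun i j => ?_⟩
  · rw [Algebra.TensorProduct.tmul_mul_tmul, mul_one]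
    by_cases h : j = k
    · subst h; simp
    · rw [if_neg h, Matrix.single_mul_single_of_ne _ _ _ _ h, TensorProduct.tmul_zero]
  · rw [← TensorProduct.tmul_sum, Algebra.TensorProduct.one_def]
    congr 1
    ext a b; simp [Matrix.sum_apply, Matrix.single_apply, Matrix.one_apply, ite_and]
  · rw [AzInv.LamInv.bc_tmul, ht, Matrix.matrix_eq_sum_single (w * Matrix.single j i 1 * w'),
      TensorProduct.tmul_sum]
    refine Finset.sum_congr rfl fun k _ => ?_
    rw [TensorProduct.tmul_sum]
    refine Finset.sum_congr rfl fun l _ => ?_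
    rw [rho_tmul, Algebra.TensorProduct.tmul_mul_tmul, mul_one, ← Algebra.smul_def, Matrix.smul_single,
      smul_eq_mul, mul_one]
    congr 2
    simp [Matrix.mul_apply, Matrix.single_apply, ite_and]

/-- The units of a matrix algebra over `A` obtained from units of `A`. -/
theorem adapted_matrix (t : AzInv.LamInv R A lam) {m n N : ℕ} (e : Fin m × Fin n ≃ Fin N)
    {w w' : Matrix (Fin n) (Fin n) R} {E : Fin n → Fin n → X ⊗[S] A} (h : Adapted t w w' E) :
    ∃ E', Adapted (t.matrix (Fin m)) ((Matrix.blockDiagonal fun _ : Fin m => w).submatrix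
        (fun a => ((e.symm a).2, (e.symm a).1)) fun a => ((e.symm a).2, (e.symm a).1))
      ((Matrix.blockDiagonal fun _ : Fin m => w').submatrix
        (fun a => ((e.symm a).2, (e.symm a).1)) fun a => ((e.symm a).2, (e.symm a).1))
      (X := X) E' := by
  classical
  let σ : ∀ (i j : Fin m), X ⊗[S] A →ₗ[S] X ⊗[S] Matrix (Fin m) (Fin m) A :=
    fun i j => LinearMap.lTensor X (Matrix.singleLinearMap S i j)
  have σmul : ∀ i j k l z z', σ i j z * σ k l z' = if j = k then σ i l (z * z') else 0 := fun i j k l z z' => by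
    induction z using TensorProduct.induction_on with
    | zero => simp
    | add a b ha hb => rw [map_add, add_mul, ha, hb, add_mul]; split <;> simp
    | tmul s a =>
      induction z' using TensorProduct.induction_on with
      | zero => simp
      | add c d hc hd => rw [map_add, mul_add, hc, hd, mul_add]; split <;> simp
      | tmul c b =>
        simp only [σ, LinearMap.lTensor_tmul, Matrix.singleLinearMap_apply, Algebra.TensorProduct.tmul_mul_tmul]
        by_cases hjk : j = k
        · subst hjk; rw [if_pos rfl, Matrix.single_mul_single_same]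
        · rw [if_neg hjk, Matrix.single_mul_single_of_ne _ _ _ _ hjk, TensorProduct.tmul_zero]
  have σone : ∑ i, σ i i 1 = 1 := by
    simp only [σ, Algebra.TensorProduct.one_def, LinearMap.lTensor_tmul, Matrix.singleLinearMap_apply,
      ← TensorProduct.tmul_sum]
    congr 1
    ext a b; simp [Matrix.sum_apply, Matrix.single_apply, Matrix.one_apply, ite_and]
  have σrho : ∀ (r : R) i j z, σ i j (rho X ((1 : X) ⊗ₜ[S] r) * z) =
      rho X ((1 : X) ⊗ₜ[S] r) * σ i j z := fun r i j z => by
    induction z using TensorProduct.induction_on with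
    | zero => simp
    | add a b ha hb => rw [mul_add, map_add, map_add, ha, hb, mul_add]
    | tmul s a =>
      simp only [σ, rho_tmul, Algebra.TensorProduct.tmul_mul_tmul, LinearMap.lTensor_tmul,
        Matrix.singleLinearMap_apply, ← Algebra.smul_def, Matrix.smul_single]
  have σbc : ∀ i j z, (t.matrix (Fin m)).bc S lam X (σ i j z) = σ j i (t.bc S lam X z) := fun i j z => by
    induction z using TensorProduct.induction_on with
    | zero => simp
    | add a b ha hb => rw [map_add, map_add, ha, hb, map_add, map_add]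
    | tmul s a =>
      simp only [σ, LinearMap.lTensor_tmul, Matrix.singleLinearMap_apply, AzInv.LamInv.bc_tmul]
      congr 1
      ext a' b'
      simp [Matrix.single_apply, apply_ite t, and_comm]
  refine ⟨fun a b => σ (e.symm a).1 (e.symm b).1 (E (e.symm a).2 (e.symm b).2), ⟨fun a b c d => ?_, ?_⟩, fun a b => ?_⟩
  · rw [σmul, h.1.1]
    by_cases hbc : b = c
    · subst hbc; simp
    · rw [if_neg hbc]
      split_ifs with h1 h2
      · exact absurd (e.symm.injective (Prod.ext h1 h2)) hbc
      · simp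
      · rfl
  · rw [← Equiv.sum_comp e]
    simp only [Equiv.symm_apply_apply]
    rw [Fintype.sum_prod_type, ← σone]
    exact Finset.sum_congr rfl fun i _ => by dsimp only; rw [← map_sum, h.1.2]
  · rw [σbc, h.2]
    conv_rhs => rw [← Equiv.sum_comp e]
    simp only [Equiv.symm_apply_apply, Fintype.sum_prod_type]
    rw [Finset.sum_eq_single (e.symm b).1]
    · rw [map_sum]
      refine Finset.sum_congr rfl fun k _ => ?_
      conv_rhs => rw [← Equiv.sum_comp e]
      simp only [Equiv.symm_apply_apply, Fintype.sum_prod_type]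
      rw [Finset.sum_eq_single (e.symm a).1]
      · rw [map_sum]
        exact Finset.sum_congr rfl fun l _ => by simp [Matrix.blockDiagonal_apply, σrho]
      · intro i _ hi
        exact Finset.sum_eq_zero fun l _ => by simp [Matrix.blockDiagonal_apply, Ne.symm hi]
      · simp
    · intro i _ hi
      exact Finset.sum_eq_zero fun k _ => Finset.sum_eq_zero fun l _ => by simp [Matrix.blockDiagonal_apply, hi]
    · simp

theorem isAzumayaDeg_matrix_self (n : ℕ) [NeZero n] :
    AzInv.IsAzumayaDeg R (Matrix (Fin n) (Fin n) R) n := by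
  refine ⟨IsAzumaya.matrix R (Fin n), fun p => ?_⟩
  haveI : Nontrivial R := ⟨⟨0, 1, fun h => p.2.ne_top ((Ideal.eq_top_iff_one _).2 (h ▸ p.1.zero_mem))⟩⟩
  rw [Module.rankAtStalk_eq_finrank_of_free, Pi.natCast_apply, Module.finrank_matrix]
  simp [pow_two]

theorem isAzumayaDeg_matrix {n : ℕ} [NeZero n] (hA : AzInv.IsAzumayaDeg R A n) (m : ℕ) [NeZero m] :
    AzInv.IsAzumayaDeg R (Matrix (Fin m) (Fin m) A) (m * n) := by
  haveI := hA.1
  haveI := (isAzumayaDeg_matrix_self (R := R) m).1
  haveI := Groth.Agent.AzumayaAlg.isAzumaya_tensorProduct (R := R) A (Matrix (Fin m) (Fin m) R)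
  refine ⟨IsAzumaya.of_AlgEquiv _ _ _ (matrixEquivTensor (Fin m) R A).symm, fun p => ?_⟩
  rw [Module.rankAtStalk_eq_of_equiv (matrixEquivTensor (Fin m) R A).toLinearEquiv,
    Module.rankAtStalk_tensorProduct]
  rw [Pi.mul_apply, hA.2, (isAzumayaDeg_matrix_self (R := R) m).2, mul_pow, mul_comm]

end

end Groth.Agent.AzInvLib
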