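import Groth.Agent.AzInvLib.Iso
import Mathlib.FieldTheory.IsSepClosed

/-!
# Involutions of Azumaya algebras over strictly henselian fixed rings
-/

set_option autoImplicit false

open scoped TensorProduct
open CategoryTheory

namespace Groth.Agent.AzInvLib

universe u v w w₂

noncomputable section

attribute [local instance] Algebra.TensorProduct.rightAlgebra

open RInvLib (ct)
open Groth.Agent.Henselization


section Sqrt

variable {S : Type u} [CommRing S]

/-- Units of all strict henselizations are squares. -/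
def SqrtSH (S : Type u) [CommRing S] : Prop :=
  ∀ (p : PrimeSpectrum S) (x : SH S p), IsUnit x → ∃ y, y * y = x

theorem sqrtSH_of_two (h2 : IsUnit (2 : S)) : SqrtSH S := fun p x hx => by
  let f : Polynomial (SH S p) := Polynomial.X ^ 2 - Polynomial.C x
  have hfm : f.Monic := Polynomial.monic_X_pow_sub_C _ two_ne_zero
  have h2K : (2 : KSep S p) ≠ 0 := by
    have := (h2.map (algebraMap S (KSep S p))).ne_zero
    rwa [map_ofNat] at this
  have hx0 : εH S (KSep S p) x ≠ 0 := (isUnit_iff x).1 hx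
  have hmap : f.map (εH S (KSep S p)).toRingHom = Polynomial.X ^ 2 - Polynomial.C (εH S (KSep S p) x) := by
    simp [f]
  haveI : NeZero ((2 : ℕ) : KSep S p) := ⟨by exact_mod_cast h2K⟩
  obtain ⟨α, hα⟩ := IsSepClosed.exists_pow_nat_eq (εH S (KSep S p) x) 2
  have hα0 : α ≠ 0 := fun h => hx0 (by rw [← hα, h]; simp)
  have hder : (f.map (εH S (KSep S p)).toRingHom).derivative.eval α = 2 * α := by
    rw [hmap]; simp [Polynomial.derivative_pow]
  obtain ⟨z, hz⟩ := exists_root_εH hfm (α := α) (by rw [hmap]; simp [hα])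
    (by rw [hder]; exact mul_ne_zero h2K hα0)
  obtain ⟨y, hy, -⟩ := HenselianLocalRing.is_henselian f hfm z
    (by rw [mem_maximalIdeal_iff]; simp [f, hz, hα])
    (by rw [isUnit_iff]; simpa [f, hz, Polynomial.derivative_pow, map_ofNat] using ⟨h2K, hα0⟩)
  exact ⟨y, by rw [← pow_two]; simpa [f, sub_eq_zero] using hy⟩

theorem sqrtSH_of_hsq (hsq : ∀ (S₁ : Type u) [CommRing S₁] [Algebra S S₁] [Algebra.Etale S S₁] (x : S₁ˣ),
      ∃ (S₂ : Type u) (_ : CommRing S₂) (_ : Algebra S₁ S₂) (_ : Algebra.Etale S₁ S₂)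
        (_ : Module.FaithfullyFlat S₁ S₂) (y : S₂), y * y = algebraMap S₁ S₂ ↑x) : SqrtSH S := fun p z hz => by
  obtain ⟨X, x, rfl⟩ := exists_toH z
  have hx : X.idx.pt x ≠ 0 := by rw [← εH_toH]; exact (isUnit_iff _).1 hz
  obtain ⟨Y, f, hu, -⟩ := exists_hom_isUnit X hx
  obtain ⟨S₂, _, _, _, _, y, hy⟩ := hsq Y.idx.S hu.unit
  letI : Algebra Y.idx.S (KSep S p) := Y.idx.pt.toRingHom.toAlgebra
  haveI : IsScalarTower S Y.idx.S (KSep S p) := .of_algebraMap_eq fun s => (Y.idx.pt.commutes s).symm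
  let B := KSep S p ⊗[Y.idx.S] S₂
  haveI : Nontrivial B := inferInstance
  obtain ⟨M, hM⟩ := Ideal.exists_maximal B
  letI := Ideal.Quotient.field M
  haveI : Algebra.FormallyUnramified (KSep S p) (B ⧸ M) :=
    haveI : Algebra.FormallyUnramified B (B ⧸ M) :=
      Algebra.FormallyUnramified.of_surjective (R := B) (A := B) (Algebra.ofId B (B ⧸ M)) Ideal.Quotient.mk_surjective
    Algebra.FormallyUnramified.comp (KSep S p) B (B ⧸ M)
  haveI : Algebra.EssFiniteType (KSep S p) (B ⧸ M) := inferInstance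
  haveI : Algebra.IsSeparable (KSep S p) (B ⧸ M) := Algebra.FormallyUnramified.isSeparable _ _
  let e := AlgEquiv.ofBijective (Algebra.ofId (KSep S p) (B ⧸ M))
    ⟨(algebraMap (KSep S p) (B ⧸ M)).injective, IsSepClosed.algebraMap_surjective _ _⟩
  let σ₀ : S₂ →+* KSep S p := (e.symm.toRingEquiv.toRingHom).comp
    ((Ideal.Quotient.mk M).comp (Algebra.TensorProduct.includeRight : S₂ →ₐ[Y.idx.S] B).toRingHom)
  have hσ₀ : ∀ a, σ₀ (algebraMap Y.idx.S S₂ a) = Y.idx.pt a := fun a => by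
    refine e.injective ?_
    show e (e.symm (Ideal.Quotient.mk M ((1 : KSep S p) ⊗ₜ[Y.idx.S] algebraMap Y.idx.S S₂ a))) = e (Y.idx.pt a)
    rw [AlgEquiv.apply_symm_apply, Algebra.algebraMap_eq_smul_one, ← TensorProduct.smul_tmul, Algebra.smul_def,
      mul_one]
    rfl
  letI : Algebra S S₂ := ((algebraMap Y.idx.S S₂).comp (algebraMap S Y.idx.S)).toAlgebra
  haveI : IsScalarTower S Y.idx.S S₂ := .of_algebraMap_eq fun _ => rfl
  haveI : Algebra.Etale S S₂ := Algebra.Etale.comp S Y.idx.S S₂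
  let σ : S₂ →ₐ[S] KSep S p :=
    { toRingHom := σ₀
      commutes' := fun s => (hσ₀ (algebraMap S Y.idx.S s)).trans (Y.idx.pt.commutes s) }
  obtain ⟨j, e', he'⟩ := exists_idx_equiv S₂ σ
  let g : Y ⟶ (⟨j⟩ : IdxCat S (KSep S p)) := ⟨e'.toAlgHom.comp (IsScalarTower.toAlgHom S Y.idx.S S₂), by
    rw [← AlgHom.comp_assoc, he']; exact AlgHom.ext hσ₀⟩
  refine ⟨toH ⟨j⟩ (e' y), ?_⟩
  rw [← map_mul, ← map_mul, hy]
  show (toH ⟨j⟩) (g.1 (f.1 x)) = toH X x
  rw [← AlgHom.comp_apply, toH_comp, ← AlgHom.comp_apply, toH_comp]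

end Sqrt

section Forms

variable {A : Type v} [CommRing A] {lam : A ≃+* A}

/-- The standard symplectic matrix (meaningful for even sizes). -/
def JN (n : ℕ) : Matrix (Fin n) (Fin n) A := fun i j =>
  if i.val / 2 = j.val / 2 then RInvLib.J₂ ⟨i.val % 2, Nat.mod_lt _ (by norm_num)⟩ ⟨j.val % 2, Nat.mod_lt _ (by norm_num)⟩
  else 0

/-- The bijection used to write `JN (k * 2)` blockwise. -/
def blk (k : ℕ) : Fin (k * 2) → Fin 2 × Fin k := fun a => ((finProdFinEquiv.symm a).2, (finProdFinEquiv.symm a).1)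

/-- `blk` as an equivalence. -/
def blkEquiv (k : ℕ) : Fin (k * 2) ≃ Fin 2 × Fin k := finProdFinEquiv.symm.trans (Equiv.prodComm _ _)

theorem JN_eq (k : ℕ) :
    (JN (k * 2) : Matrix _ _ A) =
      (Matrix.blockDiagonal fun _ : Fin k => (RInvLib.J₂ : Matrix (Fin 2) (Fin 2) A)).submatrix (blkEquiv k) (blkEquiv k) := by
  ext a b
  obtain ⟨⟨x, i⟩, rfl⟩ := finProdFinEquiv.surjective a
  obtain ⟨⟨y, j⟩, rfl⟩ := finProdFinEquiv.surjective b
  have hi := i.isLt
  have hj := j.isLt
  simp only [Matrix.submatrix_apply, blkEquiv, Equiv.trans_apply, Equiv.symm_apply_apply, Equiv.prodComm_apply,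
    Prod.swap_prod_mk, Matrix.blockDiagonal_apply, JN]
  have h1 : (finProdFinEquiv (x, i)).val / 2 = x.val ∧ (finProdFinEquiv (x, i)).val % 2 = i.val := by
    rw [finProdFinEquiv_apply_val]; dsimp only; omega
  have h2 : (finProdFinEquiv (y, j)).val / 2 = y.val ∧ (finProdFinEquiv (y, j)).val % 2 = j.val := by
    rw [finProdFinEquiv_apply_val]; dsimp only; omega
  simp only [h1, h2, Fin.eta, Fin.val_inj]

theorem ct_blockDiagonal {m o : Type*} [DecidableEq o] (M : o → Matrix m m A) :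
    ct lam (Matrix.blockDiagonal M) = Matrix.blockDiagonal fun k => ct lam (M k) := by
  rw [ct, Matrix.blockDiagonal_map _ _ (map_zero lam), Matrix.blockDiagonal_transpose]
  rfl

theorem key_calc {T : Type*} [CommRing T] (L : T →+* T) (a d b b' h₁₀ e e' w u wi hf : T) (hLw : L w = w)
    (hLu : L u = u) (hLwi : L wi = wi) (hLhf : L hf = hf) (hLa : L a = -a) (hLd : L d = -d)
    (hLe : L e = e') (hLe' : L e' = e) (hww : w * w = 1 + a * d * (e * e')) (hwu : (1 + w) * u = 1)
    (hwi : w * wi = 1) (hh2 : 2 * hf = 1) (hbe : b * e = 1) (hbe' : e' * b' = 1) (h10 : h₁₀ = -b')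
    (H : Matrix (Fin 2) (Fin 2) T) (H00 : H 0 0 = a) (H01 : H 0 1 = b) (H10 : H 1 0 = h₁₀) (H11 : H 1 1 = d)
    (J : Matrix (Fin 2) (Fin 2) T) (hJ : Matrix.of ![![(0 : T), 1], ![-1, 0]] = J) :
    ∃ v : Matrix (Fin 2) (Fin 2) T, IsUnit v ∧ (v.map L).transpose * H * v = J := by
  obtain ⟨c, hc⟩ : ∃ c, c = -(a * u) := ⟨_, rfl⟩
  obtain ⟨k, hk⟩ : ∃ k, k = d * (e * e') * (wi * wi) * hf := ⟨_, rfl⟩
  have hLc : L c = -c := by rw [hc, map_neg, map_mul, hLa, hLu]; ring
  have hLk : L k = -k := by rw [hk]; simp only [map_mul, hLd, hLe, hLe', hLwi, hLhf]; ring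
  have hq : a + 2 * c - c * c * (d * (e * e')) = 0 := by
    rw [hc]
    linear_combination (a * u * u) * hww - (a * ((w - 1) * u + 1)) * hwu
  have hw' : 1 - c * (d * (e * e')) = w := by
    rw [hc]
    linear_combination -u * hww + (w - 1) * hwu
  refine ⟨Matrix.of ![![1, k], ![e * c, e * (wi + c * k)]], ?_, ?_⟩
  · rw [Matrix.isUnit_iff_isUnit_det, Matrix.det_fin_two]
    refine IsUnit.of_mul_eq_one (b * w) ?_
    simp only [Matrix.of_apply, Matrix.cons_val_zero, Matrix.cons_val_one, Matrix.cons_val_fin_one]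
    linear_combination w * wi * hbe + hwi
  · subst hJ
    ext p r
    fin_cases p <;> fin_cases r <;>
      simp only [Matrix.mul_apply, Fin.sum_univ_two, Matrix.transpose_apply, Matrix.map_apply, Matrix.of_apply,
        Fin.zero_eta, Fin.mk_one, Matrix.cons_val_zero, Matrix.cons_val_one, Matrix.cons_val_fin_one, H00, H01, H10, H11,
        map_one, map_mul, map_add, hLc, hLk, hLe, hLwi, h10]
    · linear_combination hq + c * hbe + c * hbe'
    · linear_combination (wi + c * k) * hbe + (c * k) * hbe' + k * hq + wi * hw' + hwi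
    · linear_combination (-c * k) * hbe - (wi + c * k) * hbe' - k * hq - wi * hw' - hwi
    · have hk2 : d * (e * e') * (wi * wi) = 2 * k := by rw [hk]; linear_combination -(d * (e * e') * (wi * wi)) * hh2
      linear_combination (-(k * (wi + c * k))) * hbe - k * (wi + c * k) * hbe' - k ^ 2 * hq - 2 * k * wi * hw' - 2 * k * hwi + hk2

/-- A single symplectic block. -/
theorem cong_block (hlam : Function.Involutive lam) [IsLocalRing A] (h2 : IsUnit (2 : A))
    (hsq : ∀ a, IsUnit a → lam a = a → ∃ y, lam y = y ∧ y * y = a)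
    (h : Matrix (Fin 2) (Fin 2) A) (herm : -ct lam h = h)
    (hJ : ∀ i j, h i j - RInvLib.J₂ i j ∈ IsLocalRing.maximalIdeal A) : RInvLib.Cong lam h RInvLib.J₂ := by
  have he : ∀ i j, -lam (h j i) = h i j := fun i j => congrArg (fun M => M i j) herm
  have hne := (IsLocalRing.maximalIdeal A).ne_top_iff_one.1 (IsLocalRing.maximalIdeal.isMaximal A).ne_top
  have hb : IsUnit (h 0 1) := IsLocalRing.notMem_maximalIdeal.1 fun hu =>
    hne (by simpa [RInvLib.J₂] using sub_mem hu (hJ 0 1))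
  obtain ⟨β, hβ⟩ := hb.exists_right_inv
  have hs : lam (1 + h 0 0 * h 1 1 * (β * lam β)) = 1 + h 0 0 * h 1 1 * (β * lam β) := by
    rw [map_add, map_one, map_mul, map_mul, map_mul, hlam, neg_eq_iff_eq_neg.1 (he 0 0),
      neg_eq_iff_eq_neg.1 (he 1 1)]
    ring
  have h00 : h 0 0 ∈ IsLocalRing.maximalIdeal A := by simpa [RInvLib.J₂] using hJ 0 0
  have hsu : IsUnit (1 + h 0 0 * h 1 1 * (β * lam β)) := IsLocalRing.notMem_maximalIdeal.1 fun hu =>
    hne (by simpa using sub_mem hu (Ideal.mul_mem_right (β * lam β) _ (Ideal.mul_mem_right (h 1 1) _ h00)))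
  obtain ⟨y, hly, hy⟩ := hsq _ hsu hs
  obtain ⟨w, hlw, hw, hwu⟩ : ∃ w, lam w = w ∧ w * w = 1 + h 0 0 * h 1 1 * (β * lam β) ∧ IsUnit (1 + w) := by
    by_cases hy1 : IsUnit (1 + y)
    · exact ⟨y, hly, hy, hy1⟩
    · refine ⟨-y, by rw [map_neg, hly], by rw [neg_mul_neg, hy], IsLocalRing.notMem_maximalIdeal.1 fun hm => ?_⟩
      refine (IsLocalRing.notMem_maximalIdeal.2 h2) ?_
      have := add_mem hm (show 1 + y ∈ IsLocalRing.maximalIdeal A from hy1)
      rwa [show 1 + -y + (1 + y) = (2 : A) by ring] at this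
  obtain ⟨u, hu⟩ := hwu.exists_right_inv
  have hlu : lam u = u := by
    have h1 := congrArg lam hu
    rw [map_mul, map_add, map_one, hlw] at h1
    exact hwu.mul_left_cancel (h1.trans hu.symm)
  obtain ⟨σ', hσ'⟩ := hsu.exists_right_inv
  obtain ⟨half, hhalf⟩ := h2.exists_right_inv
  have hwi : w * (w * σ') = 1 := by rw [← mul_assoc, hw, hσ']
  obtain ⟨v, hv, hvJ⟩ := key_calc lam.toRingHom (h 0 0) (h 1 1) (h 0 1) (lam (h 0 1)) (h 1 0) β (lam β) w u
    (w * σ') half hlw hlu
    ((IsUnit.of_mul_eq_one _ hwi).mul_left_cancel (by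
      have := congrArg lam hwi
      rw [map_mul, hlw, map_one] at this
      exact this.trans hwi.symm))
    (h2.mul_left_cancel (by
      have := congrArg lam hhalf
      rw [map_mul, map_ofNat, map_one] at this
      exact this.trans hhalf.symm))
    (neg_eq_iff_eq_neg.1 (he 0 0)) (neg_eq_iff_eq_neg.1 (he 1 1)) rfl (hlam β) hw hu hwi hhalf hβ
    (by rw [← map_mul, mul_comm, hβ, map_one]) (he 1 0).symm h rfl rfl rfl rfl RInvLib.J₂ rfl
  exact ⟨v, hv, hvJ⟩

/-- Reduction of a skew hermitian matrix to the standard form. -/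
theorem cong_JN (hlam : Function.Involutive lam) [IsLocalRing A]
    (hid : ∀ a, lam a - a ∈ IsLocalRing.maximalIdeal A) (h2 : IsUnit (2 : A))
    (hsq : ∀ a, IsUnit a → lam a = a → ∃ y, lam y = y ∧ y * y = a)
    {n : ℕ} (h : Matrix (Fin n) (Fin n) A) (hh : IsUnit h) (herm : -ct lam h = h) :
    Even n ∧ RInvLib.Cong lam h (JN n) := by
  classical
  obtain ⟨k, e, h', hc, h0, hJ⟩ := RInvLib.exists_symplectic hlam (IsLocalRing.maximalIdeal A) hid h2 n h hh herm
  have hk : k * 2 = n := by simpa using Fintype.card_congr e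
  subst hk
  refine ⟨⟨k, by ring⟩, hc.trans lam ?_⟩
  have herm' : -ct lam h' = h' := by
    have := hc.herm hlam (ε := (-1 : A)) (by rwa [neg_one_smul])
    rwa [neg_one_smul] at this
  let σ : Fin 2 × Fin k ≃ Fin (k * 2) := (Equiv.prodComm _ _).trans e
  let H : Fin k → Matrix (Fin 2) (Fin 2) A := fun x a b => h' (e (x, a)) (e (x, b))
  have hH : h'.submatrix σ σ = Matrix.blockDiagonal H := by
    ext ⟨a, x⟩ ⟨b, y⟩
    rw [Matrix.submatrix_apply, Matrix.blockDiagonal_apply]
    show h' (e (x, a)) (e (y, b)) = _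
    split_ifs with hxy
    · subst hxy; rfl
    · exact h0 _ _ hxy
  choose v hv hvJ using fun x => cong_block hlam h2 hsq (H x)
    (Matrix.ext fun a b => congrArg (fun M => M (e (x, a)) (e (x, b))) herm') (hJ x)
  have hblock : RInvLib.Cong lam (Matrix.blockDiagonal H)
      (Matrix.blockDiagonal fun _ : Fin k => (RInvLib.J₂ : Matrix (Fin 2) (Fin 2) A)) := by
    refine ⟨Matrix.blockDiagonal v, ?_, ?_⟩
    · rw [Matrix.isUnit_iff_isUnit_det, Matrix.det_blockDiagonal]
      exact IsUnit.prod_iff.2 fun x _ => (Matrix.isUnit_iff_isUnit_det _).1 (hv x)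
    · rw [ct_blockDiagonal, ← Matrix.blockDiagonal_mul, ← Matrix.blockDiagonal_mul]
      exact congrArg _ (funext hvJ)
  rw [← hH] at hblock
  have h1 : RInvLib.Cong lam h' ((Matrix.blockDiagonal fun _ : Fin k => (RInvLib.J₂ : Matrix (Fin 2) (Fin 2) A)).submatrix σ.symm σ.symm) := by
    simpa using RInvLib.Cong.reindex lam σ.symm hblock
  refine h1.trans lam ?_
  rw [JN_eq]
  let π : Fin (k * 2) ≃ Fin (k * 2) := (blkEquiv k).trans σ
  refine ⟨(1 : Matrix (Fin (k * 2)) (Fin (k * 2)) A).submatrix (Equiv.refl _) π,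
    (Matrix.isUnit_submatrix_equiv _ _).2 isUnit_one, ?_⟩
  rw [RInvLib.ct_submatrix, RInvLib.ct_one]
  ext a b
  simp [Matrix.mul_apply, Matrix.one_apply, π]

end Forms

section Main

variable {S : Type u} [CommRing S] {R : Type v} [CommRing R] [Algebra S R]
  {A : Type w} [Ring A] [Algebra S A] [Algebra R A] [IsScalarTower S R A]
  {lam : R ≃ₐ[S] R}

theorem exists_twist (hlam : ∀ r, lam (lam r) = r) (hfix : RInv.IsFixedRing S R lam.toRingEquiv)
    {n : ℕ} [NeZero n] (hA : AzInv.IsAzumayaDeg R A n) (t : AzInv.LamInv R A lam) (p : PrimeSpectrum S) :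
    ∃ (E : Fin n → Fin n → SH S p ⊗[S] A) (hE : IsUnits E)
      (h h' : Matrix (Fin n) (Fin n) (SH S p ⊗[S] R)) (e : SH S p ⊗[S] R),
      h * h' = 1 ∧ ct (lamX lam (SH S p)).toRingEquiv h = e • h ∧ lamX lam (SH S p) e * e = 1 ∧
      ∀ M, t.bc S lam (SH S p) (unitsIso hA hE M) =
        unitsIso hA hE (h * ct (lamX lam (SH S p)).toRingEquiv M * h') := by
  classical
  obtain ⟨hint, hfin, hsep⟩ := sh_setting hlam hfix p
  haveI := hA.1
  have hsplit := splitFibres_of_isSepClosed hA hsep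
  obtain ⟨E₀, hE₀⟩ := exists_units (A := A) (SH S p ⊗[S] R) (SH S p) hsplit (n := n)
  let B := bridge (S := S) (R := R) (A := A) (SH S p)
  have hE : IsUnits fun i j => B (E₀ i j) :=
    ⟨fun i j k l => by rw [← map_mul, hE₀.1, apply_ite B, map_zero], by rw [← map_sum, hE₀.2, map_one]⟩
  let Φ := unitsIso hA hE
  set L := (lamX lam (SH S p)).toRingEquiv with hLdef
  have hL : Function.Involutive L := lamX_lamX hlam _
  let F : (SH S p ⊗[S] R) ⊗[R] A → (SH S p ⊗[S] R) ⊗[R] A :=
    fun z => B.symm (t.bc S lam (SH S p) (Φ (ct L (Φ.symm (B z)))))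
  let ψ : (SH S p ⊗[S] R) ⊗[R] A →ₐ[SH S p ⊗[S] R] (SH S p ⊗[S] R) ⊗[R] A :=
    { toFun := F
      map_one' := by simp only [F, map_one, RInvLib.ct_one, bc_one]
      map_mul' := fun a b => by simp only [F, map_mul, RInvLib.ct_mul, bc_mul]
      map_zero' := by
        simp only [F, map_zero, show ct L (0 : Matrix (Fin n) (Fin n) (SH S p ⊗[S] R)) = 0 by
          ext; simp [RInvLib.ct_apply]]
      map_add' := fun a b => by simp only [F, map_add, RInvLib.ct_add]
      commutes' := fun c => by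
        show F _ = _
        simp only [F]
        rw [bridge_algebraMap, ← unitsIso_scalar hA hE, RingEquiv.symm_apply_apply,
          show ct L (Matrix.scalar (Fin n) c) = Matrix.scalar (Fin n) (L c) from RInvLib.ct_diagonal L _,
          unitsIso_scalar, bc_rho, show lamX lam (SH S p) (L c) = c from hL c,
          ← bridge_algebraMap (R := R) (A := A), RingEquiv.symm_apply_apply] }
  obtain ⟨u, hu⟩ := exists_inner (A := A) (SH S p ⊗[S] R) (SH S p) hA hsplit ψ
  let h := Φ.symm (B u)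
  let h' := Φ.symm (B ↑u⁻¹)
  have hh' : h * h' = 1 := by rw [← map_mul, ← map_mul, Units.mul_inv, map_one, map_one]
  have h'h : h' * h = 1 := by rw [← map_mul, ← map_mul, Units.inv_mul, map_one, map_one]
  have hbc : ∀ M, t.bc S lam (SH S p) (Φ M) = Φ (h * ct L M * h') := fun M => by
    have h1 := congrArg B (hu (B.symm (Φ (ct L M))))
    have h2 : ψ (B.symm (Φ (ct L M))) = B.symm (t.bc S lam (SH S p) (Φ M)) := by
      show F _ = _
      simp only [F, RingEquiv.apply_symm_apply, RingEquiv.symm_apply_apply, RInvLib.ct_ct hL]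
    rw [h2, map_mul, map_mul, RingEquiv.apply_symm_apply, RingEquiv.apply_symm_apply] at h1
    apply Φ.symm.injective
    rw [RingEquiv.symm_apply_apply]
    have h3 := congrArg Φ.symm h1
    rw [map_mul, map_mul, RingEquiv.symm_apply_apply] at h3
    calc Φ.symm (t.bc S lam (SH S p) (Φ M)) = Φ.symm (t.bc S lam (SH S p) (Φ M)) * h * h' := by
          rw [mul_assoc, hh', mul_one]
      _ = h * ct L M * h' := by rw [h3]
  have hcen : ∀ M, M * (ct L h * h') = ct L h * h' * M := fun M => by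
    have h1 := hbc (h * ct L M * h')
    rw [← hbc, bc_bc] at h1
    have h2 := Φ.injective h1
    rw [RInvLib.ct_mul, RInvLib.ct_mul, RInvLib.ct_ct hL] at h2
    have hab : h * ct L h' * (ct L h * h') = 1 := by
      rw [mul_assoc, ← mul_assoc (ct L h'), ← RInvLib.ct_mul, hh', RInvLib.ct_one, one_mul, hh']
    have hba : ct L h * h' * (h * ct L h') = 1 := mul_eq_one_comm.1 hab
    calc M * (ct L h * h') = ct L h * h' * (h * ct L h') * M * (ct L h * h') := by rw [hba, one_mul]
      _ = ct L h * h' * M := by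
          conv_rhs => rw [h2]
          simp only [mul_assoc]
  obtain ⟨e, he⟩ := Matrix.mem_range_scalar_of_commute_single (M := ct L h * h') fun i j _ => hcen _
  have hcte : ct L h = e • h := by
    calc ct L h = ct L h * h' * h := by rw [mul_assoc, h'h, mul_one]
      _ = e • h := by rw [← he, Matrix.scalar_apply, ← Matrix.smul_eq_diagonal_mul]
  refine ⟨fun i j => B (E₀ i j), hE, h, h', e, hh', hcte, ?_, hbc⟩
  have h1 : (L e * e) • h = h := by
    rw [← smul_smul, ← hcte, ← RInvLib.ct_smul, ← hcte, RInvLib.ct_ct hL]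
  have h2 := congrArg (fun M => M 0 0) (congrArg (· * h') h1)
  simp only [smul_mul_assoc, hh', Matrix.smul_apply, Matrix.one_apply_eq, smul_eq_mul, mul_one] at h2
  exact h2

/-- Orthogonal standard form. -/
abbrev wOrth (R : Type v) [CommRing R] (n : ℕ) : Matrix (Fin n) (Fin n) R := 1

theorem wT_one (X : Type u) [CommRing X] [Algebra S X] (n : ℕ) :
    wT (S := S) X (1 : Matrix (Fin n) (Fin n) R) = 1 :=
  Matrix.map_one _ (TensorProduct.tmul_zero _ _) rfl

theorem wT_neg (X : Type u) [CommRing X] [Algebra S X] {n : ℕ} (w : Matrix (Fin n) (Fin n) R) :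
    wT (S := S) X (-w) = -wT (S := S) X w := by
  ext i j; exact TensorProduct.tmul_neg _ _

theorem wT_JN (X : Type u) [CommRing X] [Algebra S X] (n : ℕ) :
    wT (S := S) X (JN n : Matrix (Fin n) (Fin n) R) = JN n := by
  ext i j
  simp only [Matrix.map_apply, JN]
  split_ifs
  · generalize (⟨i.val % 2, Nat.mod_lt _ (by norm_num)⟩ : Fin 2) = a
    generalize (⟨j.val % 2, Nat.mod_lt _ (by norm_num)⟩ : Fin 2) = b
    fin_cases a <;> fin_cases b <;>
      simp [RInvLib.J₂, TensorProduct.tmul_neg, Algebra.TensorProduct.one_def]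
  · exact TensorProduct.tmul_zero _ _

theorem JN_mul_neg {K : Type*} [CommRing K] (k : ℕ) :
    (JN (k * 2) : Matrix _ _ K) * -JN (k * 2) = 1 := by
  rw [mul_neg, JN_eq, Matrix.submatrix_mul_equiv, ← Matrix.blockDiagonal_mul]
  have : (RInvLib.J₂ : Matrix (Fin 2) (Fin 2) K) * RInvLib.J₂ = -1 := by
    ext a b; fin_cases a <;> fin_cases b <;> simp [RInvLib.J₂, Matrix.mul_apply, Fin.sum_univ_two]
  simp only [this]
  ext a b
  simp only [Matrix.neg_apply, Matrix.submatrix_apply, Matrix.blockDiagonal_apply, Matrix.one_apply,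
    ← (blkEquiv k).injective.eq_iff (a := a) (b := b), Prod.ext_iff]
  split_ifs <;> simp_all

theorem JN_mul_neg' {K : Type*} [CommRing K] {n : ℕ} (hn : Even n) :
    (JN n : Matrix _ _ K) * -JN n = 1 := by
  obtain ⟨k, rfl⟩ := hn.exists_two_nsmul n
  rw [smul_eq_mul, mul_comm]
  exact JN_mul_neg k

theorem adapted_of_cong (hlam : ∀ r, lam (lam r) = r) {X : Type u} [CommRing X] [Algebra S X]
    {n : ℕ} [NeZero n] (hA : AzInv.IsAzumayaDeg R A n) (t : AzInv.LamInv R A lam)
    {E : Fin n → Fin n → X ⊗[S] A} (hE : IsUnits E) {h h' : Matrix (Fin n) (Fin n) (X ⊗[S] R)}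
    (hh' : h * h' = 1)
    (ht : ∀ M, t.bc S lam X (unitsIso hA hE M) = unitsIso hA hE (h * ct (lamX lam X).toRingEquiv M * h'))
    {w w' : Matrix (Fin n) (Fin n) R} (hw : wT (S := S) X w * wT (S := S) X w' = 1)
    (hc : RInvLib.Cong (lamX lam X).toRingEquiv h (wT (S := S) X w)) :
    ∃ E', Adapted t w w' E' (X := X) := by
  obtain ⟨v, hv, hvw⟩ := hc
  set L := (lamX lam X).toRingEquiv
  obtain ⟨v', hv'⟩ := hv.exists_right_inv
  have hv'' : v' * v = 1 := mul_eq_one_comm.1 hv'
  have hL : Function.Involutive L := lamX_lamX hlam X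
  have h'h : h' * h = 1 := mul_eq_one_comm.1 hh'
  refine exists_adapted_of_twist hA hE h h' (ct L v') (ct L v) ht
    (by rw [← RInvLib.ct_mul, hv'', RInvLib.ct_one]) ?_ ?_
  · rw [RInvLib.ct_ct hL, ← hvw, ← mul_assoc, ← mul_assoc, ← RInvLib.ct_mul, hv', RInvLib.ct_one, one_mul]
  · rw [RInvLib.ct_ct hL]
    have h1 : (wT (S := S) X w' * ct L v) * (h * v) = 1 := by
      rw [mul_assoc, ← mul_assoc (ct L v), hvw, mul_eq_one_comm.1 hw]
    have h2 : (h * v) * (v' * h') = 1 := by rw [mul_assoc, ← mul_assoc v, hv', one_mul, hh']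
    exact (left_inv_eq_right_inv h1 h2).symm

/-- The local classification: over a strict henselization every involution is orthogonal, or symplectic
at a branch point with `2` invertible and `n` even. -/
theorem exists_adapted_local (hlam : ∀ r, lam (lam r) = r) (hfix : RInv.IsFixedRing S R lam.toRingEquiv)
    (hsq : SqrtSH S) {n : ℕ} [NeZero n] (hA : AzInv.IsAzumayaDeg R A n) (t : AzInv.LamInv R A lam)
    (p : PrimeSpectrum S) :
    (((∃ r, IsUnit (r - lamX lam (SH S p) r)) ∨ Odd n) →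
        ∃ E, Adapted t (1 : Matrix (Fin n) (Fin n) R) 1 E (X := SH S p)) ∧
      (IsUnit (2 : S) → (∃ E, Adapted t (1 : Matrix (Fin n) (Fin n) R) 1 E (X := SH S p)) ∨
        (Even n ∧ ∃ E, Adapted t (JN n : Matrix (Fin n) (Fin n) R) (-JN n) E (X := SH S p))) := by
  classical
  set T := SH S p ⊗[S] R
  set L := (lamX lam (SH S p)).toRingEquiv
  obtain ⟨E, hE, h, h', e, hh', hcte, hee, ht⟩ : ∃ (E : Fin n → Fin n → SH S p ⊗[S] A) (hE : IsUnits E)
      (h h' : Matrix (Fin n) (Fin n) T) (e : T), h * h' = 1 ∧ ct L h = e • h ∧ L e * e = 1 ∧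
      ∀ M, t.bc S lam (SH S p) (unitsIso hA hE M) = unitsIso hA hE (h * ct L M * h') :=
    exists_twist hlam hfix hA t p
  have hL : Function.Involutive L := lamX_lamX hlam _
  have hfix' : RInv.IsFixedRing (SH S p) T L :=
    RInvLib.isFixedRing_baseChange (lam := lam) hlam hfix (SH S p) (Or.inl inferInstance)
  haveI : Nontrivial T := hfix'.1.nontrivial
  have hhu : IsUnit h := ⟨⟨h, h', hh', mul_eq_one_comm.1 hh'⟩, rfl⟩
  have sqrtT : ∀ a : T, IsUnit a → L a = a → ∃ y, L y = y ∧ y * y = a := fun a ha hla => by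
    obtain ⟨s, rfl⟩ := RInvLib.exists_fixed hfix' hla
    obtain ⟨y, hy⟩ := hsq p s (RInvLib.isUnit_of_isUnit_algebraMap hfix' ha)
    exact ⟨algebraMap _ T y, RInvLib.lam_algebraMap hfix' y, by rw [← map_mul, hy]⟩
  -- rescaling
  have rescale : ∀ c ε : T, IsUnit c → L c * e = ε * c → ε * ε = 1 →
      ∃ g g', g * g' = 1 ∧ ε • ct L g = g ∧
        ∀ M, t.bc S lam (SH S p) (unitsIso hA hE M) = unitsIso hA hE (g * ct L M * g') := by
    intro c ε hc hce hε
    obtain ⟨c', hc'⟩ := hc.exists_right_inv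
    refine ⟨c • h, c' • h', ?_, ?_, fun M => ?_⟩
    · rw [smul_mul_smul_comm, hc', hh', one_smul]
    · rw [RInvLib.ct_smul, hcte, smul_smul, smul_smul, mul_assoc, hce, ← mul_assoc ε, hε, one_mul]
    · rw [ht, smul_mul_assoc, smul_mul_smul_comm, hc', one_smul]
  -- orthogonal case
  have orth : ∀ g g', g * g' = 1 → ct L g = g →
      (∀ M, t.bc S lam (SH S p) (unitsIso hA hE M) = unitsIso hA hE (g * ct L M * g')) →
      ((∃ r, IsUnit (r - L r)) ∨ IsUnit (2 : T) ∨ Odd n) →
      ∃ E, Adapted t (1 : Matrix (Fin n) (Fin n) R) 1 E (X := SH S p) := by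
    intro g g' hg herm htg hcase
    have hgu : IsUnit g := ⟨⟨g, g', hg, mul_eq_one_comm.1 hg⟩, rfl⟩
    obtain ⟨q, hq⟩ := Ideal.exists_maximal T
    haveI := hq
    have hgood : ((∃ a : T, L a - a ∉ q) ∨ (1 : T) + 1 ∉ q) ∨ n = 0 ∨ ∃ i, g i i ∉ q := by
      rcases hcase with ⟨r, hr⟩ | h2 | ho
      · refine Or.inl (Or.inl ⟨r, fun hm => hq.ne_top (q.eq_top_of_isUnit_mem hm ?_)⟩)
        rw [← neg_sub]; exact hr.neg
      · exact Or.inl (Or.inr fun hm => hq.ne_top (q.eq_top_of_isUnit_mem hm (by rwa [one_add_one_eq_two])))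
      · refine or_iff_not_imp_left.2 fun hA' => Or.inr ?_
        push Not at hA'
        by_contra hd
        push Not at hd
        have hsk : ∀ i j, Ideal.Quotient.mk q (g j i) = -Ideal.Quotient.mk q (g i j) := fun i j => by
          have h1 : L (g i j) = g j i := congrArg (fun M => M j i) herm
          rw [← h1, Ideal.Quotient.eq.2 (hA'.1 (g i j))]
          refine eq_neg_of_add_eq_zero_left ?_
          rw [← map_add, Ideal.Quotient.eq_zero_iff_mem, show g i j + g i j = g i j * (1 + 1) by ring]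
          exact q.mul_mem_left _ hA'.2
        have h0 := RInvLib.det_alternating_odd (g.map (Ideal.Quotient.mk q))
          (by rwa [Fintype.card_fin]) (fun i => Ideal.Quotient.eq_zero_iff_mem.2 (hd i)) hsk
        rw [← RingHom.mapMatrix_apply, ← RingHom.map_det] at h0
        exact hq.ne_top (q.eq_top_of_isUnit_mem (Ideal.Quotient.eq_zero_iff_mem.1 h0)
          ((Matrix.isUnit_iff_isUnit_det g).1 hgu))
    obtain ⟨d, hd⟩ := RInvLib.diagonalizable_aux hL q
      (fun x c hc hx => RInvLib.isUnit_of_notMem hL hfix' q hc hx) (ε := 1) (one_mul 1) (map_one L) n g hgu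
      (by rwa [one_smul]) hgood
    have hdu : ∀ i, IsUnit (d i) := fun i => Pi.isUnit_iff.1 (Matrix.isUnit_diagonal.1 (hd.isUnit L hgu)) i
    have hdl : ∀ i, L (d i) = d i := fun i => by
      have h1 := hd.herm hL (ε := (1 : T)) (by rwa [one_smul])
      rw [one_smul, RInvLib.ct_diagonal] at h1
      exact congrFun (Matrix.diagonal_injective h1) i
    choose y hly hy using fun i => sqrtT (d i) (hdu i) (hdl i)
    choose z hz using fun i => (isUnit_of_mul_isUnit_left (y := y i) (x := y i) (by rw [hy]; exact hdu i)).exists_right_inv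
    refine adapted_of_cong hlam hA t hE hg htg (by rw [wT_one, one_mul]) (hd.trans L ?_)
    refine ⟨Matrix.diagonal z, Matrix.isUnit_diagonal.2 (Pi.isUnit_iff.2 fun i =>
      IsUnit.of_mul_eq_one _ (show z i * y i = 1 by rw [mul_comm]; exact hz i)), ?_⟩
    rw [RInvLib.ct_diagonal, Matrix.diagonal_mul_diagonal, Matrix.diagonal_mul_diagonal, wT_one,
      ← Matrix.diagonal_one]
    refine congrArg Matrix.diagonal (funext fun i => ?_)
    have hlz : L (z i) = z i := by
      have h1 := congrArg L (hz i)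
      rw [map_mul, hly, map_one] at h1
      calc L (z i) = z i * y i * L (z i) := by rw [mul_comm (z i) (y i), hz, one_mul]
        _ = z i := by rw [mul_assoc, h1, mul_one]
    rw [hlz, ← hy i]
    calc z i * (y i * y i) * z i = (y i * z i) * (y i * z i) := by ring
      _ = 1 := by rw [hz, one_mul]
  constructor
  · rintro (⟨r, hr⟩ | ho)
    · obtain ⟨a, ha⟩ := RInvLib.exists_eq_inv_mul_lam hL hfix' ⟨r, hr⟩
        ⟨e, L e, by rw [mul_comm]; exact hee, hee⟩ hee
      obtain ⟨g, g', hg, herm, htg⟩ := rescale ↑a⁻¹ 1 (Units.isUnit _) (by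
        show L ↑a⁻¹ * e = 1 * ↑a⁻¹
        rw [show e = ↑a⁻¹ * L ↑a from ha, one_mul, mul_left_comm, ← map_mul, Units.inv_mul, map_one, mul_one])
        (one_mul 1)
      exact orth g g' hg (by rwa [one_smul] at herm) htg (Or.inl ⟨r, hr⟩)
    · obtain ⟨m, hm⟩ := ho
      have hdet : IsUnit h.det := (Matrix.isUnit_iff_isUnit_det h).1 hhu
      obtain ⟨d', hd'⟩ := hdet.exists_right_inv
      have h1 : L h.det = e ^ n * h.det := by
        have h2 := congrArg Matrix.det hcte
        rw [Matrix.det_smul, Fintype.card_fin, ct, Matrix.det_transpose] at h2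
        rw [← h2]
        exact RingEquiv.map_det L h
      have h2 : L d' * e ^ n = d' := by
        have h3 : L d' * L h.det = 1 := by rw [← map_mul, mul_comm, hd', map_one]
        rw [h1] at h3
        calc L d' * e ^ n = L d' * e ^ n * (h.det * d') := by rw [hd', mul_one]
          _ = L d' * (e ^ n * h.det) * d' := by ring
          _ = d' := by rw [h3, one_mul]
      obtain ⟨g, g', hg, herm, htg⟩ := rescale (d' * L e ^ m) 1
        ((IsUnit.of_mul_eq_one _ (show d' * h.det = 1 by rw [mul_comm]; exact hd')).mul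
          ((IsUnit.of_mul_eq_one _ hee).pow m)) (by
        rw [one_mul, map_mul, map_pow, hL]
        calc L d' * e ^ m * e = L d' * e ^ m * e * (L e * e) ^ m := by rw [show L e * e = 1 from hee, one_pow, mul_one]
          _ = L d' * e ^ n * L e ^ m := by rw [hm]; ring
          _ = d' * L e ^ m := by rw [h2]) (one_mul 1)
      exact orth g g' hg (by rwa [one_smul] at herm) htg (Or.inr (Or.inr ⟨m, hm⟩))
  · intro h2S
    have h2T : IsUnit (2 : T) := by simpa [map_ofNat] using h2S.map (algebraMap S T)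
    by_cases hnt : ∃ r, L r - r ∉ Ring.jacobson T
    · obtain ⟨r, hr⟩ := RInvLib.exists_isUnit_sub hL hfix' hnt
      obtain ⟨a, ha⟩ := RInvLib.exists_eq_inv_mul_lam hL hfix' ⟨r, hr⟩
        ⟨e, L e, by rw [mul_comm]; exact hee, hee⟩ hee
      obtain ⟨g, g', hg, herm, htg⟩ := rescale ↑a⁻¹ 1 (Units.isUnit _) (by
        show L ↑a⁻¹ * e = 1 * ↑a⁻¹
        rw [show e = ↑a⁻¹ * L ↑a from ha, one_mul, mul_left_comm, ← map_mul, Units.inv_mul, map_one, mul_one])
        (one_mul 1)
      exact Or.inl (orth g g' hg (by rwa [one_smul] at herm) htg (Or.inl ⟨r, hr⟩))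
    · push Not at hnt
      haveI := RInvLib.isLocalRing_of_trivial hL hfix' hnt
      have hid : ∀ a, L a - a ∈ IsLocalRing.maximalIdeal T := fun a => RInvLib.mem_of_forall (hnt a) _
      have hmax := (IsLocalRing.maximalIdeal.isMaximal T)
      have hpm : (e - 1) * (e + 1) ∈ IsLocalRing.maximalIdeal T := by
        rw [show (e - 1) * (e + 1) = (e * e - L e * e) by rw [show L e * e = 1 from hee]; ring,
          show e * e - L e * e = -((L e - e) * e) by ring]
        exact (IsLocalRing.maximalIdeal T).neg_mem (Ideal.mul_mem_right _ _ (hid e))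
      obtain ⟨ε, hεs, hεe⟩ : ∃ ε : T, (ε = 1 ∨ ε = -1) ∧ ε * e - 1 ∈ IsLocalRing.maximalIdeal T := by
        rcases hmax.isPrime.mem_or_mem hpm with h1 | h1
        · exact ⟨1, Or.inl rfl, by rwa [one_mul]⟩
        · refine ⟨-1, Or.inr rfl, ?_⟩
          rw [show (-1 : T) * e - 1 = -(e + 1) by ring]
          exact (IsLocalRing.maximalIdeal T).neg_mem h1
      have hεε : ε * ε = 1 := by
        rcases hεs with rfl | rfl
        · exact one_mul 1
        · exact (neg_mul_neg _ _).trans (one_mul 1)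
      obtain ⟨g, g', hg, herm, htg⟩ := rescale (1 + ε * e) ε (IsLocalRing.notMem_maximalIdeal.1 fun hm => by
          refine IsLocalRing.notMem_maximalIdeal.2 h2T ?_
          have := sub_mem hm hεe
          rwa [show 1 + ε * e - (ε * e - 1) = (2 : T) by ring] at this) (by
        rw [map_add, map_one, map_mul, show L ε = ε by rcases hεs with rfl | rfl <;> simp, add_mul, one_mul,
          mul_assoc, show L e * e = 1 from hee, mul_one, mul_add, mul_one, ← mul_assoc, hεε, one_mul, add_comm]) hεε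
      rcases hεs with rfl | rfl
      · exact Or.inl (orth g g' hg (by rwa [one_smul] at herm) htg (Or.inr (Or.inl h2T)))
      · obtain ⟨hev, hc⟩ := cong_JN hL hid h2T sqrtT g ⟨⟨g, g', hg, mul_eq_one_comm.1 hg⟩, rfl⟩
          (by rwa [neg_one_smul] at herm)
        refine Or.inr ⟨hev, adapted_of_cong hlam hA t hE hg htg ?_ (by rwa [wT_JN])⟩
        rw [wT_neg, wT_JN]
        exact JN_mul_neg' hev

/-- From the strict henselization to an étale neighbourhood. -/
theorem exists_stage_adapted {p : PrimeSpectrum S} {t : AzInv.LamInv R A lam} {n : ℕ}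
    {w w' : Matrix (Fin n) (Fin n) R} (h : ∃ E, Adapted t w w' E (X := SH S p)) :
    ∃ (X : IdxCat S (KSep S p)), ∃ E, Adapted t w w' E (X := X.idx.S) := by
  classical
  obtain ⟨E, hE⟩ := h
  obtain ⟨X, x, hx⟩ := exists_lift_family (S := S) (M := A) fun k : Fin n × Fin n => E k.1 k.2
  let Q : ((Fin n × Fin n × Fin n × Fin n) ⊕ (Fin n × Fin n) ⊕ Unit) → X.idx.S ⊗[S] A :=
    Sum.elim
      (fun k => x (k.1, k.2.1) * x (k.2.2.1, k.2.2.2) - if k.2.1 = k.2.2.1 then x (k.1, k.2.2.2) else 0)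
      (Sum.elim
        (fun k => t.bc S lam X.idx.S (x k) -
          ∑ a, ∑ b, rho X.idx.S ((1 : X.idx.S) ⊗ₜ[S] (w a k.2 * w' k.1 b)) * x (a, b))
        fun _ => ∑ i, x (i, i) - 1)
  have hQ : ∀ k, tmap A (toH X) (Q k) = 0 := by
    rintro (k | k | k)
    · simp only [Q, Sum.elim_inl]
      rw [map_sub, sub_eq_zero, tmap_eq, map_mul, ← tmap_eq, ← tmap_eq, hx, hx, hE.1.1]
      split_ifs with hjk
      · rw [hx]
      · rw [map_zero]
    · simp only [Q, Sum.elim_inr, Sum.elim_inl, map_sub, map_sum, tmap_bc, hx]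
      rw [sub_eq_zero, hE.2]
      refine Finset.sum_congr rfl fun a _ => Finset.sum_congr rfl fun b _ => ?_
      rw [tmap_eq, map_mul, ← tmap_eq, ← tmap_eq, tmap_rho, hx]
    · simp only [Q, Sum.elim_inr, map_sub, map_sum, hx]
      rw [tmap_eq, map_one]
      exact sub_eq_zero.2 hE.1.2
  have hk : ∀ s : Finset _, ∃ (Y : IdxCat S (KSep S p)) (f : X ⟶ Y), ∀ k ∈ s, tmap A f.1 (Q k) = 0 := by
    intro s
    induction s using Finset.induction_on with
    | empty => exact ⟨X, 𝟙 X, by simp⟩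
    | @insert a s _ ih =>
      obtain ⟨Y, f, hf⟩ := ih
      obtain ⟨Z, g, hg⟩ := exists_kill_tensor Y (tmap A f.1 (Q a)) (by rw [tmap_toH]; exact hQ a)
      refine ⟨Z, f ≫ g, fun i hi => ?_⟩
      show tmap A (g.1.comp f.1) _ = 0
      rw [← tmap_comp]
      rcases Finset.mem_insert.1 hi with rfl | hi
      · exact hg
      · rw [hf i hi, map_zero]
  obtain ⟨Y, f, hf⟩ := hk Finset.univ
  refine ⟨Y, fun i j => tmap A f.1 (x (i, j)), ⟨fun i j k l => ?_, ?_⟩, fun i j => ?_⟩
  · have := hf (Sum.inl (i, j, k, l)) (Finset.mem_univ _)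
    simp only [Q, Sum.elim_inl] at this
    rw [map_sub, sub_eq_zero, tmap_eq, map_mul, ← tmap_eq, ← tmap_eq] at this
    rw [this]
    split_ifs with hjk
    · rfl
    · rw [map_zero]
  · have := hf (Sum.inr (Sum.inr ())) (Finset.mem_univ _)
    simp only [Q, Sum.elim_inr, map_sub, map_sum, sub_eq_zero] at this
    rw [tmap_eq _ (1 : X.idx.S ⊗[S] A), map_one] at this
    exact this
  · have := hf (Sum.inr (Sum.inl (i, j))) (Finset.mem_univ _)
    simp only [Q, Sum.elim_inr, Sum.elim_inl, map_sub, map_sum, sub_eq_zero, tmap_bc] at this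
    rw [this]
    refine Finset.sum_congr rfl fun a _ => Finset.sum_congr rfl fun b _ => ?_
    rw [tmap_eq, map_mul, ← tmap_eq, ← tmap_eq, tmap_rho]

theorem mem_range_comap_idx {p : PrimeSpectrum S} (X : IdxCat S (KSep S p)) :
    p ∈ Set.range (PrimeSpectrum.comap (algebraMap S X.idx.S)) := by
  refine ⟨⟨X.idx.q, inferInstance⟩, PrimeSpectrum.ext ?_⟩
  show (RingHom.ker X.idx.pt.toRingHom).comap (algebraMap S X.idx.S) = p.asIdeal
  rw [RingHom.comap_ker, show X.idx.pt.toRingHom.comp (algebraMap S X.idx.S) = algebraMap S (KSep S p) from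
    X.idx.pt.comp_algebraMap, ker_algebraMap_KSep]

/-- Two algebras with the same local standard forms are locally isomorphic. -/
theorem locIsoEt_of_adapted {A₂ : Type w₂} [Ring A₂] [Algebra S A₂] [Algebra R A₂] [IsScalarTower S R A₂]
    {t : AzInv.LamInv R A lam} {t' : AzInv.LamInv R A₂ lam} {n : ℕ} [NeZero n]
    (hA : AzInv.IsAzumayaDeg R A n) (hA₂ : AzInv.IsAzumayaDeg R A₂ n)
    (h : ∀ p : PrimeSpectrum S, ∃ w w' : Matrix (Fin n) (Fin n) R,
      (∃ E, Adapted t w w' E (X := SH S p)) ∧ ∃ E, Adapted t' w w' E (X := SH S p)) :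
    AzInv.LocIsoEt S lam t t' := by
  refine locIsoEt_of_isoOver fun p => ?_
  obtain ⟨w, w', h1, h2⟩ := h p
  obtain ⟨X, E, hE⟩ := exists_stage_adapted h1
  obtain ⟨Y, E₂, hE₂⟩ := exists_stage_adapted h2
  let Z := IsFiltered.max X Y
  exact ⟨Z.idx.S, inferInstance, inferInstance, inferInstance, mem_range_comap_idx Z,
    isoOver_of_adapted hA hA₂ (hE.map (IsFiltered.leftToMax X Y).1) (hE₂.map (IsFiltered.rightToMax X Y).1)⟩

/-- Transpose-type targets. -/
theorem adapted_conj_transpose (hlam : ∀ r, lam (lam r) = r) {n : ℕ} (X : Type u) [CommRing X] [Algebra S X]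
    (W : (Matrix (Fin n) (Fin n) R)ˣ) (e : R)
    (hw : AzInv.LamInv.transpose lam (Fin n) hlam (↑W : Matrix (Fin n) (Fin n) R) = e • (↑W : Matrix (Fin n) (Fin n) R))
    (he : lam e * e = 1) :
    ∃ E, Adapted ((AzInv.LamInv.transpose lam (Fin n) hlam).conj W e hw he) (↑W : Matrix (Fin n) (Fin n) R) ↑W⁻¹ E (X := X) := by
  refine ⟨_, adapted_std X _ _ _ fun i j => ?_⟩
  rw [AzInv.LamInv.conj_apply]
  congr 2
  ext a b
  simp only [AzInv.LamInv.transpose_apply, Matrix.single_apply]
  split_ifs <;> simp_all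

theorem adapted_self_matrix (hlam : ∀ r, lam (lam r) = r) (n : ℕ) (X : Type u) [CommRing X] [Algebra S X] :
    ∃ E, Adapted ((AzInv.LamInv.self lam hlam).matrix (Fin n)) (1 : Matrix (Fin n) (Fin n) R) 1 E (X := X) := by
  refine ⟨_, adapted_std X _ _ _ fun i j => ?_⟩
  rw [one_mul, mul_one]
  ext a b
  simp only [AzInv.LamInv.matrix_apply, AzInv.LamInv.self_apply, Matrix.single_apply]
  split_ifs <;> simp_all

end Main

end

end Groth.Agent.AzInvLib
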