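import Groth.Agent.AzumayaAlg.Fibre
import Groth.Agent.CSALib.Splitting
import Groth.Agent.Hensel.Idempotent
import Groth.Prelude.Def_AzInv
import Mathlib.RingTheory.Flat.LocallyFree

/-!
# Matrix units in Azumaya algebras over semilocal rings
-/

set_option autoImplicit false

open scoped TensorProduct
open Polynomial

namespace Groth.Agent.AzInvLib

universe u v w t

noncomputable section

/-- Nakayama at all maximal ideals. -/
theorem le_of_forall_maximal {T : Type t} [CommRing T] {V : Type*} [AddCommGroup V] [Module T V]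
    {N M : Submodule T V} (hM : M.FG) (h : ∀ q : Ideal T, q.IsMaximal → M ≤ N ⊔ q • M) : M ≤ N := by
  have hfg : (M.map N.mkQ).FG := hM.map _
  suffices M.map N.mkQ = ⊥ by
    rw [← le_bot_iff, Submodule.map_le_iff_le_comap, Submodule.comap_bot, Submodule.ker_mkQ] at this
    exact this
  by_contra hne
  have hann : Submodule.annihilator (M.map N.mkQ) ≠ ⊤ := fun h => hne ((Submodule.annihilator_eq_top_iff).1 h)
  obtain ⟨q, hq, hle⟩ := Ideal.exists_le_maximal _ hann
  have h1 : M.map N.mkQ ≤ q • M.map N.mkQ := by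
    refine (Submodule.map_mono (h q hq)).trans ?_
    rw [Submodule.map_sup, Submodule.map_smul'', Submodule.mkQ_map_self, bot_sup_eq]
  obtain ⟨r, hr, hr0⟩ := Submodule.exists_sub_one_mem_and_smul_eq_zero_of_fg_of_le_smul q _ hfg h1
  exact hq.ne_top ((Ideal.eq_top_iff_one q).2
    (by simpa using q.sub_mem (hle (Submodule.mem_annihilator.2 hr0)) hr))

/-- Idempotents lift along any surjection out of a ring integral over a field. -/
theorem exists_idempotent_of_field {k : Type*} [Field k] {B : Type*} [CommRing B] [Algebra k B]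
    [Algebra.IsIntegral k B] {C : Type*} [Ring C] (f : B →+* C) {y : B} (hy : IsIdempotentElem (f y)) :
    ∃ e : B, IsIdempotentElem e ∧ f e = f y := by
  obtain ⟨P, hP, hP0⟩ := Algebra.IsIntegral.isIntegral (R := k) y
  obtain ⟨P', hPP', hP'⟩ := Polynomial.exists_eq_pow_rootMultiplicity_mul_and_not_dvd P hP.ne_zero 0
  rw [map_zero, sub_zero] at hP' hPP'
  set j := Polynomial.rootMultiplicity 0 P
  rw [Polynomial.X_dvd_iff] at hP'
  have h1 : y ^ j * Polynomial.aeval y P' = 0 := by
    have : Polynomial.aeval y P = 0 := hP0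
    rwa [hPP', map_mul, map_pow, Polynomial.aeval_X] at this
  obtain ⟨g, hg⟩ : ∃ g : B, Polynomial.aeval y P' = algebraMap k B (P'.coeff 0) + y * g :=
    ⟨Polynomial.aeval y P'.divX, by
      conv_lhs => rw [← Polynomial.X_mul_divX_add P']
      rw [map_add, map_mul, Polynomial.aeval_X, Polynomial.aeval_C, add_comm]⟩
  obtain ⟨w, hw⟩ : ∃ w : B, y ^ j = y ^ (j + 1) * w := by
    refine ⟨-g * algebraMap k B (P'.coeff 0)⁻¹, ?_⟩
    have hc : algebraMap k B (P'.coeff 0) * algebraMap k B (P'.coeff 0)⁻¹ = 1 := by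
      rw [← map_mul, mul_inv_cancel₀ hP', map_one]
    rw [hg] at h1
    linear_combination algebraMap k B (P'.coeff 0)⁻¹ * h1 - y ^ j * hc
  have hm : ∀ i, y ^ j = y ^ (j + i) * w ^ i := by
    intro i
    induction i with
    | zero => simp
    | succ i ih =>
      calc y ^ j = y ^ (j + i) * w ^ i := ih
        _ = y ^ j * (y ^ i * w ^ i) := by ring
        _ = y ^ (j + 1) * w * (y ^ i * w ^ i) := by rw [← hw]
        _ = _ := by ring
  have hz := hm j
  refine ⟨y ^ j * w ^ j, ?_, ?_⟩
  · show y ^ j * w ^ j * (y ^ j * w ^ j) = y ^ j * w ^ j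
    conv_rhs => rw [hz]
    ring
  · rcases Nat.eq_zero_or_pos j with hj | hj
    · rw [hj] at hw ⊢
      simp only [pow_zero, zero_add, pow_one] at hw
      rw [pow_zero, pow_zero, mul_one, map_one]
      have h2 : f y * f w = 1 := by rw [← map_mul, ← hw, map_one]
      calc (1 : C) = f y * f w := h2.symm
        _ = f y * (f y * f w) := by rw [← mul_assoc, hy.eq]
        _ = f y := by rw [h2, mul_one]
    · have hyj : ∀ i, 0 < i → f (y ^ i) = f y := fun i hi => by
        obtain ⟨i, rfl⟩ := Nat.exists_eq_succ_of_ne_zero hi.ne'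
        rw [map_pow, hy.pow_succ_eq]
      calc f (y ^ j * w ^ j) = f (y ^ (j + j) * w ^ j) := by
            rw [map_mul, map_mul, hyj j hj, hyj (j + j) (by omega)]
        _ = f (y ^ j) := by rw [← hz]
        _ = f y := hyj j hj

section Semilocal

variable {R : Type v} [CommRing R] {A : Type w} [Ring A] [Algebra R A]
variable (T : Type t) [CommRing T] [Algebra R T]

/-- Reduction at an ideal of the base. -/
def red (q : Ideal T) : T ⊗[R] A →ₐ[T] (T ⧸ q) ⊗[R] A :=
  Algebra.TensorProduct.map (Algebra.ofId T (T ⧸ q)) (AlgHom.id R A)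

variable {T}

theorem red_tmul (q : Ideal T) (c : T) (a : A) : red T q (c ⊗ₜ[R] a) = Ideal.Quotient.mk q c ⊗ₜ[R] a := rfl

theorem red_surjective (q : Ideal T) : Function.Surjective (red (A := A) (R := R) T q) := fun z => by
  induction z using TensorProduct.induction_on with
  | zero => exact ⟨0, map_zero _⟩
  | tmul c a =>
    obtain ⟨c, rfl⟩ := Ideal.Quotient.mk_surjective c
    exact ⟨c ⊗ₜ a, rfl⟩
  | add x y hx hy =>
    obtain ⟨a, rfl⟩ := hx
    obtain ⟨b, rfl⟩ := hy
    exact ⟨a + b, map_add _ _ _⟩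

theorem mem_smul_top_of_red_eq_zero {q : Ideal T} {z : T ⊗[R] A} (hz : red T q z = 0) :
    z ∈ q • (⊤ : Submodule T (T ⊗[R] A)) := by
  set N := q • (⊤ : Submodule T (T ⊗[R] A))
  let g : (T ⧸ q) →ₗ[R] A →ₗ[R] (T ⊗[R] A) ⧸ N :=
    (q.restrictScalars R).liftQ
      ((TensorProduct.mk R T A).compr₂ (N.mkQ.restrictScalars R))
      (fun c hc => LinearMap.ext fun a => by
        show N.mkQ (c ⊗ₜ[R] a) = 0
        rw [Submodule.mkQ_apply, Submodule.Quotient.mk_eq_zero,
          show c ⊗ₜ[R] a = c • ((1 : T) ⊗ₜ[R] a) by rw [TensorProduct.smul_tmul', smul_eq_mul, mul_one]]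
        exact Submodule.smul_mem_smul hc Submodule.mem_top)
  have hg : ∀ z, TensorProduct.lift g (red T q z) = N.mkQ z := fun z => by
    induction z using TensorProduct.induction_on with
    | zero => simp
    | tmul c a => rfl
    | add x y hx hy => rw [map_add, map_add, hx, hy, map_add]
  have := hg z
  rw [hz, map_zero, Submodule.mkQ_apply, eq_comm, Submodule.Quotient.mk_eq_zero] at this
  exact this

variable (A) in
/-- Splitting of all closed fibres. -/
def SplitFibres (T : Type t) [CommRing T] [Algebra R T] (n : ℕ) : Prop :=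
  ∀ q : Ideal T, q.IsMaximal → Nonempty ((T ⧸ q) ⊗[R] A ≃ₐ[T ⧸ q] Matrix (Fin n) (Fin n) (T ⧸ q))

theorem finrank_fibre {n : ℕ} (hA : AzInv.IsAzumayaDeg R A n) (K : Type*) [Field K] [Algebra R K] :
    Module.finrank K (K ⊗[R] A) = n ^ 2 := by
  haveI := hA.1
  let P : PrimeSpectrum K := ⟨⊥, Ideal.isPrime_bot⟩
  have h1 := Module.rankAtStalk_baseChange (R := R) (M := A) (S := K) P
  rwa [hA.2, Module.rankAtStalk_eq_finrank_of_free, Pi.natCast_apply] at h1

theorem splitFibres_of_isSepClosed {n : ℕ} (hA : AzInv.IsAzumayaDeg R A n)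
    (hsep : ∀ (q : Ideal T) [q.IsMaximal], letI := Ideal.Quotient.field q; IsSepClosed (T ⧸ q)) :
    SplitFibres (R := R) A T n := fun q hq => by
  letI := Ideal.Quotient.field q
  haveI := hsep q
  haveI := hA.1
  haveI := Groth.Agent.AzumayaAlg.isAzumaya_baseChange (R := R) (T ⧸ q) A
  obtain ⟨hc, hs⟩ := Groth.Agent.AzumayaAlg.isCentral_isSimple_of_isAzumaya (k := T ⧸ q) ((T ⧸ q) ⊗[R] A)
  obtain ⟨m, ⟨e⟩⟩ := Groth.Agent.CSADescent.exists_algEquiv_matrix (L := T ⧸ q) ((T ⧸ q) ⊗[R] A)
  have hm : m = n := by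
    have h1 := finrank_fibre hA (T ⧸ q)
    rw [e.toLinearEquiv.finrank_eq, Module.finrank_matrix] at h1
    simp [← pow_two] at h1
    exact h1
  exact hm ▸ ⟨e⟩

variable (T) in
/-- Simultaneous lifting. -/
theorem exists_lift [Finite (MaximalSpectrum T)] (b : ∀ q : MaximalSpectrum T, (T ⧸ q.asIdeal) ⊗[R] A) :
    ∃ z : T ⊗[R] A, ∀ q, red T q.asIdeal z = b q := by
  classical
  haveI := Fintype.ofFinite (MaximalSpectrum T)
  choose z hz using fun q : MaximalSpectrum T => red_surjective (R := R) (A := A) q.asIdeal (b q)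
  choose c hc using fun q : MaximalSpectrum T => Ideal.exists_forall_sub_mem_ideal
    (I := fun q : MaximalSpectrum T => q.asIdeal) (fun i j h =>
      Ideal.isCoprime_iff_sup_eq.2 (i.isMaximal.coprime_of_ne j.isMaximal fun e => h (MaximalSpectrum.ext e)))
    (fun q' => if q' = q then (1 : T) else 0)
  refine ⟨∑ q, c q • z q, fun q => ?_⟩
  rw [map_sum, Finset.sum_eq_single q]
  · rw [map_smul, ← algebraMap_smul (T ⧸ q.asIdeal) (c q), Ideal.Quotient.algebraMap_eq,
      Ideal.Quotient.eq.2 (hc q q), if_pos rfl, map_one, one_smul, hz]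
  · intro q' _ hne
    rw [map_smul, ← algebraMap_smul (T ⧸ q.asIdeal) (c q'), Ideal.Quotient.algebraMap_eq,
      Ideal.Quotient.eq.2 (hc q' q), if_neg hne.symm, map_zero, zero_smul]
  · simp

/-- An idempotent killed in every closed fibre vanishes. -/
theorem eq_zero_of_idempotent [Module.Finite T (T ⊗[R] A)] {p : T ⊗[R] A} (hp : IsIdempotentElem p)
    (h : ∀ q : Ideal T, q.IsMaximal → red T q p = 0) : p = 0 := by
  let r : T ⊗[R] A →ₗ[T] T ⊗[R] A := LinearMap.mulRight T p
  have hle : LinearMap.range r ≤ ⊥ := by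
    refine le_of_forall_maximal (by rw [LinearMap.range_eq_map]; exact Module.Finite.fg_top.map r) fun q hq => ?_
    rintro _ ⟨z, rfl⟩
    refine Submodule.mem_sup_right ?_
    have hr : r z = r (r z) := by simp [r, mul_assoc, hp.eq]
    rw [hr, LinearMap.range_eq_map, ← Submodule.map_smul'']
    exact Submodule.mem_map_of_mem (mem_smul_top_of_red_eq_zero (by simp [r, h q hq]))
  have := hle ⟨p, rfl⟩
  rwa [Submodule.mem_bot, LinearMap.mulRight_apply, hp.eq] at this

/-- An idempotent can be lifted from the closed fibres. -/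
theorem exists_idempotent (H : Type u) [CommRing H] [HenselianLocalRing H] [Algebra H T] [Algebra.IsIntegral H T]
    [Module.Finite T (T ⊗[R] A)] (a : T ⊗[R] A)
    (ha : ∀ q : MaximalSpectrum T, IsIdempotentElem (red T q.asIdeal a)) :
    ∃ e : T ⊗[R] A, IsIdempotentElem e ∧ ∀ q : MaximalSpectrum T, red T q.asIdeal e = red T q.asIdeal a := by
  obtain ⟨f, hf, hfa⟩ : IsIntegral T a := IsIntegral.of_finite T a
  let B := T[X] ⧸ Ideal.span {f}
  let ψ : B →ₐ[T] T ⊗[R] A := Ideal.Quotient.liftₐ _ (Polynomial.aeval a) fun g hg => by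
    obtain ⟨g', rfl⟩ := Ideal.mem_span_singleton'.1 hg
    rw [map_mul, show Polynomial.aeval a f = 0 from hfa, mul_zero]
  let x : B := Ideal.Quotient.mk _ X
  have hx : ψ x = a := Polynomial.aeval_X a
  haveI : Module.Finite T B := hf.finite_quotient
  haveI : IsScalarTower H T B := inferInstance
  haveI : Algebra.IsIntegral H B := Algebra.IsIntegral.trans T
  let m := IsLocalRing.maximalIdeal H
  haveI : HenselianRing H m := Groth.Agent.Hensel.henselianRing_maximalIdeal_iff.2 inferInstance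
  let G : B →+* Π q : MaximalSpectrum T, (T ⧸ q.asIdeal) ⊗[R] A :=
    Pi.ringHom fun q => (red T q.asIdeal).toRingHom.comp ψ.toRingHom
  have hG : ∀ b ∈ m.map (algebraMap H B), G b = 0 := by
    intro b hb
    have hle : m.map (algebraMap H B) ≤ RingHom.ker G := Ideal.map_le_iff_le_comap.2 fun c hc => by
      refine funext fun q => ?_
      show red T q.asIdeal (ψ (algebraMap T B (algebraMap H T c))) = 0
      rw [AlgHom.commutes, AlgHom.commutes, IsScalarTower.algebraMap_apply T (T ⧸ q.asIdeal),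
        Ideal.Quotient.algebraMap_eq, show Ideal.Quotient.mk q.asIdeal (algebraMap H T c) = 0 from ?_, map_zero]
      refine Ideal.Quotient.eq_zero_iff_mem.2 ?_
      haveI := q.isMaximal
      have h2 : q.asIdeal.comap (algebraMap H T) = m :=
        IsLocalRing.eq_maximalIdeal (Ideal.isMaximal_comap_of_isIntegral_of_isMaximal q.asIdeal)
      rw [← Ideal.mem_comap, h2]; exact hc
    exact hle hb
  letI := Ideal.Quotient.field m
  letI : Algebra (H ⧸ m) (B ⧸ m.map (algebraMap H B)) := Ideal.Quotient.algebraQuotientMapQuotient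
  haveI : Algebra.IsIntegral (H ⧸ m) (B ⧸ m.map (algebraMap H B)) := ⟨fun z => by
    obtain ⟨b, rfl⟩ := Ideal.Quotient.mk_surjective z
    obtain ⟨P, hP, hP0⟩ := Algebra.IsIntegral.isIntegral (R := H) b
    refine ⟨P.map (Ideal.Quotient.mk m), hP.map _, ?_⟩
    rw [Polynomial.eval₂_map,
      show (algebraMap (H ⧸ m) (B ⧸ m.map (algebraMap H B))).comp (Ideal.Quotient.mk m) =
        (Ideal.Quotient.mk (m.map (algebraMap H B))).comp (algebraMap H B) from rfl,
      ← Polynomial.hom_eval₂, hP0, map_zero]⟩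
  let G' := Ideal.Quotient.lift (m.map (algebraMap H B)) G hG
  obtain ⟨e₀, he₀, he₀'⟩ := exists_idempotent_of_field (k := H ⧸ m) G' (y := Ideal.Quotient.mk _ x) (by
    refine funext fun q => ?_
    show red T q.asIdeal (ψ x) * red T q.asIdeal (ψ x) = red T q.asIdeal (ψ x)
    rw [hx]; exact ha q)
  obtain ⟨e, he, hee⟩ := Groth.Agent.Hensel.surjOn_idempotent (A := H) (I := m) B he₀
  refine ⟨ψ e, he.map ψ, fun q => ?_⟩
  rw [← hee] at he₀'
  have h3 := congrFun he₀' q
  rw [← hx]
  exact h3

/-- A system of matrix units. -/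
def IsUnits {C : Type*} [Ring C] {n : ℕ} (E : Fin n → Fin n → C) : Prop :=
  (∀ i j k l, E i j * E k l = if j = k then E i l else 0) ∧ ∑ i, E i i = 1

theorem IsUnits.map {C D : Type*} [Ring C] [Ring D] {n : ℕ} {E : Fin n → Fin n → C} (hE : IsUnits E)
    (f : C →+* D) : IsUnits fun i j => f (E i j) :=
  ⟨fun i j k l => by rw [← map_mul, hE.1, apply_ite f, map_zero], by rw [← map_sum, hE.2, map_one]⟩

variable (T) in
/-- Matrix units exist when the closed fibres are split. -/
theorem exists_units (H : Type u) [CommRing H] [HenselianLocalRing H] [Algebra H T] [Algebra.IsIntegral H T]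
    [Finite (MaximalSpectrum T)] [IsAzumaya R A] {n : ℕ} [NeZero n] (hsplit : SplitFibres (R := R) A T n) :
    ∃ E : Fin n → Fin n → T ⊗[R] A, IsUnits E := by
  classical
  haveI : Module.Finite T (T ⊗[R] A) := inferInstance
  have φ := fun q : MaximalSpectrum T => hsplit q.asIdeal q.isMaximal
  let E₀ : ∀ (q : MaximalSpectrum T) (i j : Fin n), (T ⧸ q.asIdeal) ⊗[R] A := fun q i j =>
    (φ q).some.symm (Matrix.single i j 1)
  have hE₀ : ∀ q, IsUnits (E₀ q) := fun q =>
    IsUnits.map (E := fun i j => Matrix.single i j (1 : T ⧸ q.asIdeal))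
      ⟨fun i j k l => by
        by_cases h : j = k
        · subst h; simp
        · rw [if_neg h]; exact Matrix.single_mul_single_of_ne _ _ _ _ h _,
        by ext a b; simp [Matrix.sum_apply, Matrix.single_apply, Matrix.one_apply, ite_and]⟩
      (φ q).some.symm.toRingEquiv.toRingHom
  have hne : ∀ q (c : T ⧸ q.asIdeal), c • E₀ q 0 0 = 0 → c = 0 := fun q c h => by
    rw [← map_smul, map_eq_zero_iff _ (φ q).some.symm.injective] at h
    simpa using congrArg (fun M => M 0 0) h
  obtain ⟨a, ha⟩ := exists_lift T fun q => E₀ q 0 0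
  obtain ⟨e, he, hea⟩ := exists_idempotent H a fun q => by
    rw [ha]; show E₀ q 0 0 * E₀ q 0 0 = E₀ q 0 0; rw [(hE₀ q).1]; simp
  have hered : ∀ q, red T q.asIdeal e = E₀ q 0 0 := fun q => (hea q).trans (ha q)
  have hcorner : ∀ z, ∃ c : T, e * z * e = c • e := by
    let r : T ⊗[R] A →ₗ[T] T ⊗[R] A := (LinearMap.mulRight T e).comp (LinearMap.mulLeft T e)
    suffices LinearMap.range r ≤ Submodule.span T {e} by
      intro z
      obtain ⟨c, hc⟩ := Submodule.mem_span_singleton.1 (this ⟨z, rfl⟩)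
      exact ⟨c, hc.symm⟩
    refine le_of_forall_maximal (by rw [LinearMap.range_eq_map]; exact Module.Finite.fg_top.map r) fun q hq => ?_
    rintro _ ⟨z, rfl⟩
    set Q : MaximalSpectrum T := ⟨q, hq⟩
    obtain ⟨M, hM⟩ := (φ Q).some.symm.surjective (red T q (r z))
    have h1 : red T q (r z) = M 0 0 • E₀ Q 0 0 := by
      have h2 : red T q (r z) = E₀ Q 0 0 * red T q (r z) * E₀ Q 0 0 := by
        rw [← hered Q, ← map_mul, ← map_mul]
        refine congrArg _ ?_
        simp [r, mul_assoc, he.eq]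
        rw [← mul_assoc e e, he.eq]
      rw [h2, ← hM, ← map_mul, ← map_mul, ← map_smul]
      refine congrArg _ ?_
      rw [Matrix.single_mul_mul_single, one_mul, mul_one, Matrix.smul_single, smul_eq_mul, mul_one]
    obtain ⟨c, hc⟩ := Ideal.Quotient.mk_surjective (M 0 0)
    rw [← sub_add_cancel (r z) (c • e)]
    refine add_mem (Submodule.mem_sup_right ?_)
      (Submodule.mem_sup_left (Submodule.smul_mem _ _ (Submodule.mem_span_singleton_self e)))
    have h3 : red T q (r z - c • e) = 0 := by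
      rw [map_sub, map_smul, h1, ← hc, hered Q, ← algebraMap_smul (T ⧸ q) c, Ideal.Quotient.algebraMap_eq, sub_self]
    have h4 : r (r z - c • e) = r z - c • e := by
      simp only [r, LinearMap.comp_apply, LinearMap.mulLeft_apply, LinearMap.mulRight_apply, mul_sub, sub_mul,
        mul_smul_comm, smul_mul_assoc, he.eq, ← mul_assoc]
      rw [mul_assoc _ e e, he.eq]
    rw [← h4, LinearMap.range_eq_map, ← Submodule.map_smul'']
    exact Submodule.mem_map_of_mem (mem_smul_top_of_red_eq_zero h3)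
  choose X hX using fun i => exists_lift T fun q => E₀ q i 0
  choose Y hY using fun j => exists_lift T fun q => E₀ q 0 j
  choose G hG using fun i j => hcorner (Y i * X j)
  have hGred : ∀ (q : MaximalSpectrum T) i j, Ideal.Quotient.mk q.asIdeal (G i j) = (1 : Matrix (Fin n) (Fin n) _) i j := by
    intro q i j
    have h1 := congrArg (red T q.asIdeal) (hG i j)
    rw [map_mul, map_mul, map_mul, map_smul, hered, hY, hX, ← algebraMap_smul (T ⧸ q.asIdeal) (G i j),
      Ideal.Quotient.algebraMap_eq, ← mul_assoc, (hE₀ q).1, if_pos rfl, (hE₀ q).1] at h1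
    by_cases hij : i = j
    · subst hij
      rw [if_pos rfl, (hE₀ q).1, if_pos rfl] at h1
      rw [Matrix.one_apply_eq, ← sub_eq_zero]
      exact hne q _ ((sub_smul _ _ _).trans (sub_eq_zero.2 (h1.symm.trans (one_smul _ _).symm)))
    · rw [if_neg hij, zero_mul] at h1
      rw [Matrix.one_apply_ne hij]
      exact hne q _ h1.symm
  have hdet : IsUnit (Matrix.det (Matrix.of G)) := by
    by_contra hu
    obtain ⟨q, hq, hmem⟩ := exists_max_ideal_of_mem_nonunits (mem_nonunits_iff.2 hu)
    haveI := hq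
    have h1 : (Matrix.of G).map (Ideal.Quotient.mk q) = 1 := Matrix.ext fun i j => hGred ⟨q, hq⟩ i j
    have h2 : Ideal.Quotient.mk q (Matrix.det (Matrix.of G)) = 1 := by
      rw [RingHom.map_det, RingHom.mapMatrix_apply, h1, Matrix.det_one]
    rw [Ideal.Quotient.eq_zero_iff_mem.2 hmem] at h2
    exact zero_ne_one h2
  obtain ⟨G', hG'⟩ := ((Matrix.isUnit_iff_isUnit_det (Matrix.of G)).2 hdet).exists_left_inv
  let x : Fin n → T ⊗[R] A := fun i => X i * e
  let y : Fin n → T ⊗[R] A := fun i => ∑ k, G' i k • (e * Y k)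
  have hyx : ∀ i j, y i * x j = if i = j then e else 0 := fun i j => by
    simp only [x, y, Finset.sum_mul, smul_mul_assoc]
    rw [Finset.sum_congr rfl fun k _ => show G' i k • (e * Y k * (X j * e)) = (G' i k * G k j) • e by
      rw [← mul_assoc, mul_assoc e (Y k) (X j), hG, smul_smul], ← Finset.sum_smul,
      show ∑ k, G' i k * G k j = (1 : Matrix (Fin n) (Fin n) T) i j by rw [← hG']; rfl, Matrix.one_apply,
      ite_smul, one_smul, zero_smul]
  have hxe : ∀ i, x i * e = x i := fun i => by simp [x, mul_assoc, he.eq]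
  have hy_red : ∀ (q : MaximalSpectrum T) i, red T q.asIdeal (y i) = E₀ q 0 i := by
    intro q i
    have h1 : ∀ i k, Ideal.Quotient.mk q.asIdeal (G' i k) = (1 : Matrix (Fin n) (Fin n) _) i k := by
      have h2 : G'.map (Ideal.Quotient.mk q.asIdeal) * (Matrix.of G).map (Ideal.Quotient.mk q.asIdeal) = 1 := by
        rw [← Matrix.map_mul, hG', Matrix.map_one _ (map_zero _) (map_one _)]
      rw [show (Matrix.of G).map (Ideal.Quotient.mk q.asIdeal) = 1 from Matrix.ext (hGred q), mul_one] at h2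
      exact fun i k => congrArg (fun M => M i k) h2
    simp only [y, map_sum, map_smul, map_mul, hered, hY, (hE₀ q).1, if_true]
    rw [Finset.sum_eq_single i]
    · rw [← algebraMap_smul (T ⧸ q.asIdeal) (G' i i), Ideal.Quotient.algebraMap_eq, h1, Matrix.one_apply_eq, one_smul]
    · intro k _ hk
      rw [← algebraMap_smul (T ⧸ q.asIdeal) (G' i k), Ideal.Quotient.algebraMap_eq, h1, Matrix.one_apply_ne hk.symm,
        zero_smul]
    · simp
  have hmul : ∀ i j k l, x i * y j * (x k * y l) = if j = k then x i * y l else 0 := fun i j k l => by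
    rw [mul_assoc (x i), ← mul_assoc (y j), hyx]
    by_cases h : j = k
    · rw [if_pos h, if_pos h, ← mul_assoc, hxe]
    · rw [if_neg h, if_neg h, zero_mul, mul_zero]
  refine ⟨fun i j => x i * y j, hmul, ?_⟩
  have hidem : IsIdempotentElem (∑ i, x i * y i) := by
    show (∑ i, x i * y i) * (∑ i, x i * y i) = _
    simp [Finset.sum_mul, Finset.mul_sum, hmul]
  refine (sub_eq_zero.1 (eq_zero_of_idempotent (p := 1 - ∑ i, x i * y i) hidem.one_sub fun q hq => ?_)).symm
  rw [map_sub, map_one, map_sum, sub_eq_zero, ← (hE₀ ⟨q, hq⟩).2]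
  refine Finset.sum_congr rfl fun i _ => ?_
  rw [map_mul, hy_red ⟨q, hq⟩, show red T q (x i) = E₀ ⟨q, hq⟩ i 0 by
    simp only [x, map_mul]; rw [hered ⟨q, hq⟩, hX i ⟨q, hq⟩, (hE₀ _).1, if_pos rfl], (hE₀ _).1, if_pos rfl]

/-- The comparison map attached to matrix units. -/
def unitsHom {C : Type*} [Ring C] [Algebra T C] {n : ℕ} {E : Fin n → Fin n → C} (hE : IsUnits E) :
    Matrix (Fin n) (Fin n) T →ₐ[T] C :=
  AlgHom.ofLinearMap
    { toFun := fun M => ∑ i, ∑ j, M i j • E i j
      map_add' := fun M N => by simp [add_smul, Finset.sum_add_distrib]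
      map_smul' := fun c M => by simp [Finset.smul_sum, smul_smul] }
    (by simp [Matrix.one_apply, ite_smul, hE.2])
    (fun M N => by
      show (∑ i, ∑ j, (M * N) i j • E i j) = (∑ i, ∑ j, M i j • E i j) * ∑ k, ∑ l, N k l • E k l
      rw [Finset.sum_mul]
      refine Finset.sum_congr rfl fun i _ => ?_
      rw [Finset.sum_mul]
      simp only [Matrix.mul_apply, Finset.sum_smul]
      rw [Finset.sum_comm]
      refine Finset.sum_congr rfl fun j _ => ?_
      rw [Finset.mul_sum]
      refine ((Finset.sum_eq_single j (fun k _ hk => ?_) (by simp)).trans ?_).symm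
      · rw [Finset.mul_sum]
        exact Finset.sum_eq_zero fun l _ => by rw [smul_mul_smul_comm, hE.1, if_neg hk.symm, smul_zero]
      · rw [Finset.mul_sum]
        exact Finset.sum_congr rfl fun l _ => by rw [smul_mul_smul_comm, hE.1, if_pos rfl])

theorem unitsHom_apply {C : Type*} [Ring C] [Algebra T C] {n : ℕ} {E : Fin n → Fin n → C} (hE : IsUnits E)
    (M : Matrix (Fin n) (Fin n) T) : unitsHom hE M = ∑ i, ∑ j, M i j • E i j := rfl

theorem unitsHom_single {C : Type*} [Ring C] [Algebra T C] {n : ℕ} {E : Fin n → Fin n → C} (hE : IsUnits E)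
    (i j : Fin n) (c : T) : unitsHom hE (Matrix.single i j c) = c • E i j := by
  classical
  simp [unitsHom_apply, Matrix.single_apply, ite_smul, ite_and]

theorem unitsHom_bijective {n : ℕ} [NeZero n] (hA : AzInv.IsAzumayaDeg R A n) {E : Fin n → Fin n → T ⊗[R] A}
    (hE : IsUnits E) : Function.Bijective (unitsHom (T := T) hE) := by
  classical
  haveI := hA.1
  have hsurj : Function.Surjective (unitsHom (T := T) hE).toLinearMap := by
    rw [← LinearMap.range_eq_top, eq_top_iff]
    refine le_of_forall_maximal Module.Finite.fg_top fun q hq z _ => ?_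
    letI := Ideal.Quotient.field q
    have hE' := hE.map (red (R := R) (A := A) T q).toRingHom
    haveI : Nontrivial ((T ⧸ q) ⊗[R] A) :=
      Module.nontrivial_of_finrank_pos (R := T ⧸ q) (by rw [finrank_fibre hA]; exact pow_pos (NeZero.pos n) 2)
    have hinj : Function.Injective (unitsHom (T := T ⧸ q) hE') :=
      RingHom.injective (unitsHom (T := T ⧸ q) hE').toRingHom
    obtain ⟨M, hM⟩ := (LinearMap.injective_iff_surjective_of_finrank_eq_finrank
      (f := (unitsHom (T := T ⧸ q) hE').toLinearMap)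
      (by rw [finrank_fibre hA, Module.finrank_matrix]; simp [pow_two])).1 hinj (red T q z)
    choose M' hM' using fun i j => Ideal.Quotient.mk_surjective (M i j)
    rw [← sub_add_cancel z (unitsHom hE (Matrix.of M'))]
    refine add_mem (Submodule.mem_sup_right (mem_smul_top_of_red_eq_zero ?_))
      (Submodule.mem_sup_left ⟨_, rfl⟩)
    rw [map_sub, sub_eq_zero, ← hM]
    simp only [AlgHom.toLinearMap_apply, unitsHom_apply, map_sum, map_smul]
    refine Finset.sum_congr rfl fun i _ => Finset.sum_congr rfl fun j _ => ?_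
    rw [← algebraMap_smul (T ⧸ q) (Matrix.of M' i j), Ideal.Quotient.algebraMap_eq, Matrix.of_apply, hM']
    rfl
  refine Module.bijective_of_surjective_of_rankAtStalk_eq hsurj fun m _ => ?_
  haveI : Nontrivial T := Ideal.Quotient.mk_surjective (I := m) |>.nontrivial
  rw [Module.rankAtStalk_baseChange, hA.2, Module.rankAtStalk_eq_finrank_of_free, Pi.natCast_apply,
    Module.finrank_matrix]
  simp [pow_two]

variable (T) in
/-- Automorphisms are inner when the closed fibres are split. -/
theorem exists_inner (H : Type u) [CommRing H] [HenselianLocalRing H] [Algebra H T] [Algebra.IsIntegral H T]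
    [Finite (MaximalSpectrum T)] {n : ℕ} [NeZero n] (hA : AzInv.IsAzumayaDeg R A n)
    (hsplit : SplitFibres (R := R) A T n) (ψ : T ⊗[R] A →ₐ[T] T ⊗[R] A) :
    ∃ u : (T ⊗[R] A)ˣ, ∀ z, ψ z * u = u * z := by
  classical
  haveI := hA.1
  haveI : Module.Finite T (T ⊗[R] A) := inferInstance
  obtain ⟨E, hE⟩ := exists_units (A := A) T H hsplit
  have hb := unitsHom_bijective hA hE
  let Φ := AlgEquiv.ofBijective (unitsHom hE) hb
  let F : Fin n → Fin n → T ⊗[R] A := fun i j => ψ (E i j)
  have hF : IsUnits F := hE.map ψ.toRingHom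
  let Φ' := AlgEquiv.ofBijective (unitsHom hF) (unitsHom_bijective hA hF)
  have hcor : ∀ {E : Fin n → Fin n → T ⊗[R] A} (hE : IsUnits E) (z : T ⊗[R] A), ∃ c : T,
      E 0 0 * z * E 0 0 = c • E 0 0 := fun {E} hE z => by
    obtain ⟨M, rfl⟩ := (unitsHom_bijective hA hE).2 z
    refine ⟨M 0 0, ?_⟩
    rw [← one_smul T (E 0 0), ← unitsHom_single hE, ← map_mul, ← map_mul, Matrix.single_mul_mul_single,
      unitsHom_single, unitsHom_single]
    simp
  have hfib : ∀ q : MaximalSpectrum T, ∃ v : ((T ⧸ q.asIdeal) ⊗[R] A)ˣ, ∀ i j,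
      red T q.asIdeal (F i j) * v = v * red T q.asIdeal (E i j) := fun q => by
    haveI := q.isMaximal
    letI := Ideal.Quotient.field q.asIdeal
    haveI := Groth.Agent.AzumayaAlg.isAzumaya_baseChange (R := R) (T ⧸ q.asIdeal) A
    obtain ⟨hc, hs⟩ := Groth.Agent.AzumayaAlg.isCentral_isSimple_of_isAzumaya (k := T ⧸ q.asIdeal)
      ((T ⧸ q.asIdeal) ⊗[R] A)
    haveI := hc
    haveI := hs
    have hb1 : ∀ {E : Fin n → Fin n → T ⊗[R] A} (hE : IsUnits E), Function.Bijective
        (unitsHom (T := T ⧸ q.asIdeal) (hE.map (red (R := R) (A := A) T q.asIdeal).toRingHom)) := fun {E} hE => by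
      haveI : Nontrivial ((T ⧸ q.asIdeal) ⊗[R] A) :=
        Module.nontrivial_of_finrank_pos (R := T ⧸ q.asIdeal) (by rw [finrank_fibre hA]; exact pow_pos (NeZero.pos n) 2)
      have hinj := RingHom.injective
        (unitsHom (T := T ⧸ q.asIdeal) (hE.map (red (R := R) (A := A) T q.asIdeal).toRingHom)).toRingHom
      exact ⟨hinj, (LinearMap.injective_iff_surjective_of_finrank_eq_finrank
        (f := (unitsHom (T := T ⧸ q.asIdeal) (hE.map (red (R := R) (A := A) T q.asIdeal).toRingHom)).toLinearMap)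
        (by rw [finrank_fibre hA, Module.finrank_matrix]; simp [pow_two])).1 hinj⟩
    let e₁ := AlgEquiv.ofBijective _ (hb1 hE)
    let e₂ := AlgEquiv.ofBijective _ (hb1 hF)
    obtain ⟨v, hv⟩ := Groth.Agent.CSADescent.exists_unit_conj ((e₁.symm.trans e₂).toAlgHom)
    refine ⟨v, fun i j => ?_⟩
    have hw : (e₁.symm.trans e₂).toAlgHom (red T q.asIdeal (E i j)) = red T q.asIdeal (F i j) := by
      have h1 : e₁ (Matrix.single i j 1) = red T q.asIdeal (E i j) :=
        (unitsHom_single (hE.map (red (R := R) (A := A) T q.asIdeal).toRingHom) i j 1).trans (one_smul _ _)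
      show e₂ (e₁.symm _) = _
      rw [← h1, AlgEquiv.symm_apply_apply]
      exact (unitsHom_single (hF.map (red (R := R) (A := A) T q.asIdeal).toRingHom) i j 1).trans (one_smul _ _)
    rw [← hw, hv, mul_assoc, Units.inv_mul, mul_one]
  choose v hv using hfib
  obtain ⟨Z, hZ⟩ := exists_lift T fun q => (v q : (T ⧸ q.asIdeal) ⊗[R] A)
  obtain ⟨Z', hZ'⟩ := exists_lift T fun q => (↑(v q)⁻¹ : (T ⧸ q.asIdeal) ⊗[R] A)
  let z := F 0 0 * Z * E 0 0
  let z' := E 0 0 * Z' * F 0 0
  have hee : E 0 0 * E 0 0 = E 0 0 := by rw [hE.1, if_pos rfl]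
  have hff : F 0 0 * F 0 0 = F 0 0 := by rw [hF.1, if_pos rfl]
  obtain ⟨c, hc⟩ := hcor hE (Z' * F 0 0 * (F 0 0 * Z))
  have hzz : z' * z = c • E 0 0 := by rw [← hc]; simp only [z, z', mul_assoc]
  have hredz : ∀ q : MaximalSpectrum T, red T q.asIdeal z = v q * red T q.asIdeal (E 0 0) := fun q => by
    show red T q.asIdeal (F 0 0 * Z * E 0 0) = _
    rw [map_mul, map_mul, hZ, hv, mul_assoc, ← map_mul, hee]
  have hredz' : ∀ q : MaximalSpectrum T, red T q.asIdeal z' = red T q.asIdeal (E 0 0) * ↑(v q)⁻¹ := fun q => by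
    show red T q.asIdeal (E 0 0 * Z' * F 0 0) = _
    have h1 : red T q.asIdeal (F 0 0) = v q * red T q.asIdeal (E 0 0) * ↑(v q)⁻¹ := by
      rw [← hv, mul_assoc, Units.mul_inv, mul_one]
    rw [map_mul, map_mul, hZ', h1, ← mul_assoc, ← mul_assoc, mul_assoc (red T q.asIdeal (E 0 0)) (↑(v q)⁻¹ : (T ⧸ q.asIdeal) ⊗[R] A),
      Units.inv_mul, mul_one, ← map_mul, hee]
  have hcu : IsUnit c := by
    by_contra hu
    obtain ⟨q, hq, hmem⟩ := exists_max_ideal_of_mem_nonunits (mem_nonunits_iff.2 hu)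
    haveI := hq
    letI := Ideal.Quotient.field q
    have h1 := congrArg (red T q) hzz
    rw [map_mul, hredz ⟨q, hq⟩, hredz' ⟨q, hq⟩, map_smul, ← algebraMap_smul (T ⧸ q) c,
      Ideal.Quotient.algebraMap_eq, Ideal.Quotient.eq_zero_iff_mem.2 hmem, zero_smul, mul_assoc,
      Units.inv_mul_cancel_left, ← map_mul, hee] at h1
    haveI : Nontrivial ((T ⧸ q) ⊗[R] A) :=
      Module.nontrivial_of_finrank_pos (R := T ⧸ q) (by rw [finrank_fibre hA]; exact pow_pos (NeZero.pos n) 2)
    have h2 : red T q (∑ i, E i 0 * E 0 0 * E 0 i) = 0 := by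
      rw [map_sum]; exact Finset.sum_eq_zero fun i _ => by rw [map_mul, map_mul, h1, mul_zero, zero_mul]
    rw [Finset.sum_congr rfl fun i _ => show E i 0 * E 0 0 * E 0 i = E i i by simp [hE.1], hE.2, map_one] at h2
    exact one_ne_zero h2
  obtain ⟨c', hc'⟩ := hcu.exists_left_inv
  set y := c' • z'
  have hyz : y * z = E 0 0 := by rw [smul_mul_assoc, hzz, smul_smul, hc', one_smul]
  have hez : z * E 0 0 = z := by simp [z, mul_assoc, hee]
  have hfz : F 0 0 * z = z := by simp only [z, ← mul_assoc, hff]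
  have hyf : y * F 0 0 = y := by simp [y, z', mul_assoc, hff]
  have hey : E 0 0 * y = y := by simp only [y, z', mul_smul_comm, ← mul_assoc, hee]
  have hzy : z * y = F 0 0 := by
    refine (sub_eq_zero.1 (eq_zero_of_idempotent (p := F 0 0 - z * y) ?_ fun q hq => ?_)).symm
    · show (F 0 0 - z * y) * (F 0 0 - z * y) = F 0 0 - z * y
      have h1 : F 0 0 * (z * y) = z * y := by rw [← mul_assoc, hfz]
      have h2 : z * y * F 0 0 = z * y := by rw [mul_assoc, hyf]
      have h3 : z * y * (z * y) = z * y := by rw [mul_assoc, ← mul_assoc y, hyz, hey]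
      rw [sub_mul, mul_sub, mul_sub, hff, h1, h2, h3, sub_self, sub_zero]
    · haveI := hq
      have hc1 : Ideal.Quotient.mk q c' • red T q z' = red T q y := by
        rw [map_smul, ← algebraMap_smul (T ⧸ q) c', Ideal.Quotient.algebraMap_eq]
      rw [map_sub, map_mul, ← hc1, hredz ⟨q, hq⟩, hredz' ⟨q, hq⟩, mul_smul_comm, sub_eq_zero]
      have hcq : Ideal.Quotient.mk q c • red T q (E 0 0) = red T q (E 0 0) := by
        have h1 := congrArg (red T q) hzz
        rw [map_mul, hredz ⟨q, hq⟩, hredz' ⟨q, hq⟩, map_smul, ← algebraMap_smul (T ⧸ q) c,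
          Ideal.Quotient.algebraMap_eq, mul_assoc, Units.inv_mul_cancel_left, ← map_mul, hee] at h1
        exact h1.symm
      have hf1 : red T q (F 0 0) = v ⟨q, hq⟩ * red T q (E 0 0) * ↑(v ⟨q, hq⟩)⁻¹ := by
        rw [← hv ⟨q, hq⟩, mul_assoc, Units.mul_inv, mul_one]
      rw [hf1, mul_assoc, mul_assoc, ← mul_assoc (red T q (E 0 0)), ← map_mul, hee]
      have h5 : Ideal.Quotient.mk q c' • (red T q (E 0 0)) = red T q (E 0 0) := by
        conv_lhs => rw [← hcq, smul_smul, ← map_mul, hc', map_one, one_smul]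
      conv_lhs => rw [← h5, smul_mul_assoc, mul_smul_comm]
  let u : T ⊗[R] A := ∑ i, F i 0 * z * E 0 i
  let u' : T ⊗[R] A := ∑ i, E i 0 * y * F 0 i
  have horth : ∀ {G : Fin n → Fin n → T ⊗[R] A}, IsUnits G → ∀ (a b : Fin n → T ⊗[R] A),
      (∑ i, a i * G 0 i) * (∑ j, G j 0 * b j) = ∑ i, a i * G 0 0 * b i := fun {G} hG a b => by
    rw [Finset.sum_mul]
    refine Finset.sum_congr rfl fun i _ => ?_
    rw [Finset.mul_sum, Finset.sum_eq_single i]
    · rw [mul_assoc, ← mul_assoc (G 0 i), hG.1, if_pos rfl, ← mul_assoc]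
    · intro j _ hj
      rw [mul_assoc, ← mul_assoc (G 0 i), hG.1, if_neg hj.symm, zero_mul, mul_zero]
    · simp
  have huu : u * u' = 1 := by
    have := horth hE (fun i => F i 0 * z) fun j => y * F 0 j
    simp only [← mul_assoc] at this
    refine this.trans ?_
    rw [← hF.2]
    refine Finset.sum_congr rfl fun i _ => ?_
    rw [mul_assoc (F i 0) z, hez, mul_assoc (F i 0) z y, hzy, hF.1, if_pos rfl, hF.1, if_pos rfl]
  have hu'u : u' * u = 1 := by
    have := horth hF (fun i => E i 0 * y) fun j => z * E 0 j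
    simp only [← mul_assoc] at this
    refine this.trans ?_
    rw [← hE.2]
    refine Finset.sum_congr rfl fun i _ => ?_
    rw [mul_assoc (E i 0) y, hyf, mul_assoc (E i 0) y z, hyz, hE.1, if_pos rfl, hE.1, if_pos rfl]
  refine ⟨⟨u, u', huu, hu'u⟩, fun w => ?_⟩
  obtain ⟨M, rfl⟩ := Φ.surjective w
  show ψ (unitsHom hE M) * u = u * unitsHom hE M
  have key : ∀ a b, F a b * u = u * E a b := fun a b => by
    rw [Finset.mul_sum, Finset.sum_eq_single b, Finset.sum_mul, Finset.sum_eq_single a]
    · rw [← mul_assoc, ← mul_assoc, hF.1, if_pos rfl, mul_assoc (F a 0 * z), hE.1, if_pos rfl]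
    · intro i _ hi
      rw [mul_assoc, hE.1, if_neg hi, mul_zero]
    · simp
    · intro i _ hi
      rw [← mul_assoc, ← mul_assoc, hF.1, if_neg (Ne.symm hi), zero_mul, zero_mul]
    · simp
  simp only [unitsHom_apply, map_sum, map_smul, Finset.sum_mul, Finset.mul_sum, smul_mul_assoc, mul_smul_comm]
  exact Finset.sum_congr rfl fun a _ => Finset.sum_congr rfl fun b _ => by rw [show ψ (E a b) * u = F a b * u from rfl, key]

end Semilocal

end

end Groth.Agent.AzInvLib
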