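import Groth.Agent.AzInvLib.Index

/-!
# Types of involutions
-/

set_option autoImplicit false

open scoped TensorProduct
open CategoryTheory

namespace Groth.Agent.AzInvLib

universe u v w w₂

noncomputable section

attribute [local instance] Algebra.TensorProduct.rightAlgebra

open RInvLib (ct)
open Groth.Agent.Henselization

variable {S : Type u} [CommRing S] {R : Type v} [CommRing R] [Algebra S R]
  {A : Type w} [Ring A] [Algebra S A] [Algebra R A] [IsScalarTower S R A]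
  {A₂ : Type w₂} [Ring A₂] [Algebra S A₂] [Algebra R A₂] [IsScalarTower S R A₂]
  {lam : R ≃ₐ[S] R}

/-- Only the products `w k j * w' i l` matter. -/
theorem Adapted.congr_mul {X : Type u} [CommRing X] [Algebra S X] {t : AzInv.LamInv R A lam} {n : ℕ}
    {w w' v v' : Matrix (Fin n) (Fin n) R} {E : Fin n → Fin n → X ⊗[S] A} (h : Adapted t w w' E)
    (he : ∀ i j k l, (1 : X) ⊗ₜ[S] (w k j * w' i l) = (1 : X) ⊗ₜ[S] (v k j * v' i l)) :
    Adapted t v v' E := by
  refine ⟨h.1, fun i j => ?_⟩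
  rw [h.2]
  simp only [he]

theorem Adapted.congr_wT {X : Type u} [CommRing X] [Algebra S X] {t : AzInv.LamInv R A lam} {n : ℕ}
    {w w' v v' : Matrix (Fin n) (Fin n) R} {E : Fin n → Fin n → X ⊗[S] A} (h : Adapted t w w' E)
    (h1 : wT (S := S) X w = wT (S := S) X v) (h2 : wT (S := S) X w' = wT (S := S) X v') :
    Adapted t v v' E := by
  refine h.congr_mul fun i j k l => ?_
  have e1 : (1 : X) ⊗ₜ[S] w k j = (1 : X) ⊗ₜ[S] v k j := congrArg (fun M => M k j) h1
  have e2 : (1 : X) ⊗ₜ[S] w' i l = (1 : X) ⊗ₜ[S] v' i l := congrArg (fun M => M i l) h2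
  rw [← one_mul (1 : X), ← Algebra.TensorProduct.tmul_mul_tmul, ← Algebra.TensorProduct.tmul_mul_tmul, e1, e2]

theorem isAzumayaDeg_self : AzInv.IsAzumayaDeg R R 1 := by
  refine ⟨IsAzumaya.id R, fun p => ?_⟩
  haveI : Nontrivial R := ⟨⟨0, 1, fun h => p.2.ne_top ((Ideal.eq_top_iff_one _).2 (h ▸ p.1.zero_mem))⟩⟩
  rw [Module.rankAtStalk_eq_finrank_of_free, Pi.natCast_apply, Module.finrank_self]
  rfl

theorem orthAt_self (hlam : ∀ r, lam (lam r) = r) (p : PrimeSpectrum S) :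
    OrthAt (AzInv.LamInv.self lam hlam) 1 p := by
  refine ⟨fun _ _ => 1, ⟨fun i j k l => ?_, by simp⟩, fun i j => ?_⟩
  · rw [if_pos (Subsingleton.elim j k), one_mul]
  · rw [bc_one, Fin.sum_univ_one, Fin.sum_univ_one, mul_one, Subsingleton.elim i 0, Subsingleton.elim j 0,
      Matrix.one_apply_eq, one_mul, show (1 : SH S p) ⊗ₜ[S] (1 : R) = 1 from rfl, map_one]

/-- Common local types give the same type. -/
theorem sameType_of_local {n n' : ℕ} [NeZero n] [NeZero n'] (hA : AzInv.IsAzumayaDeg R A n)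
    (hA₂ : AzInv.IsAzumayaDeg R A₂ n') (t : AzInv.LamInv R A lam) (t' : AzInv.LamInv R A₂ lam)
    (m m' : ℕ) [NeZero m] [NeZero m'] (hmn : m * n = m' * n')
    (h : ∀ p : PrimeSpectrum S, (OrthAt t n p ∧ OrthAt t' n' p) ∨
      ((Even n ∧ SympAt t n p) ∧ (Even n' ∧ SympAt t' n' p))) :
    AzInv.SameType S lam t t' := by
  haveI : NeZero (m * n) := ⟨mul_ne_zero (NeZero.ne m) (NeZero.ne n)⟩
  refine ⟨m, m', NeZero.pos m, NeZero.pos m',
    locIsoEt_of_adapted (n := m * n) (isAzumayaDeg_matrix' hA m (m * n) rfl)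
      (isAzumayaDeg_matrix' hA₂ m' (m * n) hmn.symm) fun p => ?_⟩
  rcases h p with ⟨h1, h2⟩ | ⟨⟨hev, h1⟩, hev', h2⟩
  · exact ⟨1, 1, orthAt_matrix t m _ finProdFinEquiv h1,
      orthAt_matrix t' m' _ (finProdFinEquiv.trans (finCongr hmn.symm)) h2⟩
  · exact ⟨JN (m * n), -JN (m * n), sympAt_matrix t m _ finProdFinEquiv hev
        (fun j i => finProdFinEquiv_apply_val (j, i)) h1,
      sympAt_matrix t' m' _ (finProdFinEquiv.trans (finCongr hmn.symm)) hev'
        (fun j i => finProdFinEquiv_apply_val (j, i)) h2⟩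

theorem sameType_self_of_orth (hlam : ∀ r, lam (lam r) = r) {n : ℕ} [NeZero n] (hA : AzInv.IsAzumayaDeg R A n)
    (t : AzInv.LamInv R A lam) (h : ∀ p : PrimeSpectrum S, OrthAt t n p) :
    AzInv.SameType S lam t (AzInv.LamInv.self lam hlam) :=
  sameType_of_local hA isAzumayaDeg_self t _ 1 n (by ring) fun p => Or.inl ⟨h p, orthAt_self hlam p⟩

theorem locIsoEt_symm {t : AzInv.LamInv R A lam} {t' : AzInv.LamInv R A₂ lam} (h : AzInv.LocIsoEt S lam t t') :
    AzInv.LocIsoEt S lam t' t := by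
  obtain ⟨S', h1, h2, h3, h4, f, hf, hft⟩ := h
  exact ⟨S', h1, h2, h3, h4, f.symm,
    fun r x => by rw [AlgEquiv.symm_apply_eq, hf, AlgEquiv.apply_symm_apply],
    fun x => by rw [AlgEquiv.symm_apply_eq, hft, AlgEquiv.apply_symm_apply]⟩

theorem sameType_symm {t : AzInv.LamInv R A lam} {t' : AzInv.LamInv R A₂ lam} (h : AzInv.SameType S lam t t') :
    AzInv.SameType S lam t' t :=
  let ⟨m, m', hm, hm', h⟩ := h
  ⟨m', m, hm', hm, locIsoEt_symm h⟩

theorem orthAt_of_odd (hlam : ∀ r, lam (lam r) = r) (hfix : RInv.IsFixedRing S R lam.toRingEquiv)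
    (hsq : SqrtSH S) {n : ℕ} [NeZero n] (hA : AzInv.IsAzumayaDeg R A n) (t : AzInv.LamInv R A lam)
    (hn : Odd n) (p : PrimeSpectrum S) : OrthAt t n p :=
  (exists_adapted_local hlam hfix hsq hA t p).1 (Or.inr hn)

theorem orthAt_of_isQuadEtale (hlam : ∀ r, lam (lam r) = r) (hfix : RInv.IsFixedRing S R lam.toRingEquiv)
    (hsq : SqrtSH S) {n : ℕ} [NeZero n] (hA : AzInv.IsAzumayaDeg R A n) (t : AzInv.LamInv R A lam)
    (hq : RInv.IsQuadEtale S R) (p : PrimeSpectrum S) : OrthAt t n p :=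
  orthAt_of_delta hlam hfix hsq hA t (exists_delta_of_isQuadEtale hlam hfix hq p)

/-- The orthogonal locus is clopen where everything is ramified. -/
theorem isClopen_orthAt (hlam : ∀ r, lam (lam r) = r) (hfix : RInv.IsFixedRing S R lam.toRingEquiv)
    (h2 : IsUnit (2 : S)) {n : ℕ} [NeZero n] (hA : AzInv.IsAzumayaDeg R A n) (t : AzInv.LamInv R A lam)
    (hev : Even n)
    (hram : ∀ p : PrimeSpectrum S,
      ∃ q : PrimeSpectrum R, PrimeSpectrum.comap (algebraMap S R) q = p ∧ ∀ r, lam r - r ∈ q.asIdeal) :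
    IsClopen {p | OrthAt t n p} := by
  refine ⟨⟨?_⟩, isOpen_orthAt t n⟩
  rw [show {p | OrthAt t n p}ᶜ = {p | SympAt t n p} from Set.ext fun p => ?_]
  · exact isOpen_sympAt t n
  obtain ⟨q, rfl, hq⟩ := hram p
  refine ⟨fun h => ?_, fun h h' => not_orth_and_symp hlam hfix h2 hA t q hq hev h' h⟩
  rcases orth_or_symp hlam hfix h2 hA t (PrimeSpectrum.comap (algebraMap S R) q) with ho | ⟨-, hs⟩
  · exact absurd ho h
  · exact hs

theorem exists_delta_iff (hlam : ∀ r, lam (lam r) = r) (hfix : RInv.IsFixedRing S R lam.toRingEquiv)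
    (p : PrimeSpectrum S) :
    RInv.IsQuadEtale (Localization.AtPrime p.asIdeal) (Localization.AtPrime p.asIdeal ⊗[S] R) ↔
      ∃ (r : R) (s : S), s ∉ p.asIdeal ∧ algebraMap S R s = (r - lam r) * lam (r - lam r) :=
  RInvLib.isQuadEtale_atPrime_iff (lam := lam.toRingEquiv) hlam hfix p

/-- Nonbranched or everywhere branched: a global standard form. -/
theorem exists_ordinary (hlam : ∀ r, lam (lam r) = r) (hfix : RInv.IsFixedRing S R lam.toRingEquiv)
    (hsq : SqrtSH S)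
    (hram : (IsUnit (2 : S) ∧ ∀ p : PrimeSpectrum S,
        ¬ RInv.IsQuadEtale (Localization.AtPrime p.asIdeal) (Localization.AtPrime p.asIdeal ⊗[S] R)) ∨
      RInv.IsQuadEtale S R)
    {n : ℕ} [NeZero n] (hA : AzInv.IsAzumayaDeg R A n) (t : AzInv.LamInv R A lam) :
    ∃ (w : (Matrix (Fin n) (Fin n) R)ˣ) (e : R)
      (hw : AzInv.LamInv.transpose lam (Fin n) hlam (↑w : Matrix (Fin n) (Fin n) R) = e • (↑w : Matrix (Fin n) (Fin n) R))
      (he : lam e * e = 1),
      AzInv.LocIsoEt S lam t ((AzInv.LamInv.transpose lam (Fin n) hlam).conj w e hw he) := by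
  classical
  have orth : (∀ p, OrthAt t n p) → ∃ (w : (Matrix (Fin n) (Fin n) R)ˣ) (e : R)
      (hw : AzInv.LamInv.transpose lam (Fin n) hlam (↑w : Matrix (Fin n) (Fin n) R) = e • (↑w : Matrix (Fin n) (Fin n) R))
      (he : lam e * e = 1),
      AzInv.LocIsoEt S lam t ((AzInv.LamInv.transpose lam (Fin n) hlam).conj w e hw he) := fun h => by
    have hw : AzInv.LamInv.transpose lam (Fin n) hlam (↑(1 : (Matrix (Fin n) (Fin n) R)ˣ) : Matrix (Fin n) (Fin n) R) =
        (1 : R) • (↑(1 : (Matrix (Fin n) (Fin n) R)ˣ) : Matrix (Fin n) (Fin n) R) := by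
      rw [Units.val_one, AzInv.LamInv.map_one, one_smul]
    refine ⟨1, 1, hw, by rw [map_one, mul_one], locIsoEt_of_adapted hA (isAzumayaDeg_matrix_self n) fun p => ?_⟩
    refine ⟨1, 1, h p, ?_⟩
    obtain ⟨E, hE⟩ := adapted_conj_transpose (S := S) hlam (SH S p) (1 : (Matrix (Fin n) (Fin n) R)ˣ) 1 hw
      (by rw [map_one, mul_one])
    exact ⟨E, by simpa using hE⟩
  rcases hram with ⟨h2, hnq⟩ | hq
  swap
  · exact orth (orthAt_of_isQuadEtale hlam hfix hsq hA t hq)
  rcases Nat.even_or_odd n with hev | ho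
  swap
  · exact orth (orthAt_of_odd hlam hfix hsq hA t ho)
  have hr : ∀ p : PrimeSpectrum S,
      ∃ q : PrimeSpectrum R, PrimeSpectrum.comap (algebraMap S R) q = p ∧ ∀ r, lam r - r ∈ q.asIdeal := fun p =>
    (delta_or_ramified hlam hfix p).resolve_left fun h => hnq p ((exists_delta_iff hlam hfix p).2 h)
  obtain ⟨e₀, he₀, hU⟩ := PrimeSpectrum.isClopen_iff.1 (isClopen_orthAt hlam hfix h2 hA t hev hr)
  have hmem : ∀ p : PrimeSpectrum S, OrthAt t n p ↔ e₀ ∉ p.asIdeal := fun p => Set.ext_iff.1 hU p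
  obtain ⟨a, ha⟩ : ∃ a, a = algebraMap S R e₀ := ⟨_, rfl⟩
  have haa : a * a = a := by rw [ha, ← map_mul, he₀.eq]
  have hla : lam a = a := by rw [ha, AlgEquiv.commutes]
  let J : Matrix (Fin n) (Fin n) R := JN n
  have hJJ : J * J = -1 := neg_eq_iff_eq_neg.1 (by rw [← mul_neg]; exact JN_mul_neg' hev)
  let W : Matrix (Fin n) (Fin n) R := a • 1 + (1 - a) • J
  let W' : Matrix (Fin n) (Fin n) R := a • 1 + (1 - a) • (-J)
  have hWW : W * W' = 1 := by
    simp only [W, W', mul_add, add_mul, smul_mul_smul_comm, one_mul, mul_one, mul_neg, hJJ, neg_neg]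
    rw [show a * (1 - a) = 0 by rw [mul_sub, mul_one, haa, sub_self],
      show (1 - a) * a = 0 by rw [sub_mul, one_mul, haa, sub_self],
      show (1 - a) * (1 - a) = 1 - a by
        rw [mul_sub, mul_one, sub_mul, one_mul, haa, sub_self, sub_zero],
      haa, zero_smul, zero_smul, add_zero, zero_add, ← add_smul, add_sub_cancel, one_smul]
  have hJT : AzInv.LamInv.transpose lam (Fin n) hlam J = -J := by
    ext i j
    rw [AzInv.LamInv.transpose_apply, Matrix.neg_apply]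
    simp only [J, JN]
    by_cases hij : i.val / 2 = j.val / 2
    · rw [if_pos hij, if_pos hij.symm]
      generalize (⟨i.val % 2, Nat.mod_lt _ (by norm_num)⟩ : Fin 2) = x
      generalize (⟨j.val % 2, Nat.mod_lt _ (by norm_num)⟩ : Fin 2) = y
      fin_cases x <;> fin_cases y <;> simp [RInvLib.J₂]
    · rw [if_neg hij, if_neg (Ne.symm hij), map_zero, neg_zero]
  let u : (Matrix (Fin n) (Fin n) R)ˣ := ⟨W, W', hWW, mul_eq_one_comm.1 hWW⟩
  have hw : AzInv.LamInv.transpose lam (Fin n) hlam (↑u : Matrix (Fin n) (Fin n) R) =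
      (a + a - 1) • (↑u : Matrix (Fin n) (Fin n) R) := by
    show AzInv.LamInv.transpose lam (Fin n) hlam W = (a + a - 1) • W
    simp only [W]
    rw [AzInv.LamInv.map_add, AzInv.LamInv.map_smul, AzInv.LamInv.map_smul, AzInv.LamInv.map_one, hJT, map_sub,
      map_one, hla, smul_add, smul_smul, smul_smul,
      show (a + a - 1) * a = a by rw [sub_mul, add_mul, haa, one_mul, add_sub_cancel_right],
      show (a + a - 1) * (1 - a) = -(1 - a) by linear_combination (-2 : R) * haa, neg_smul, smul_neg]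
  refine ⟨u, a + a - 1, hw, by rw [map_sub, map_add, map_one, hla]; linear_combination (4 : R) * haa,
    locIsoEt_of_adapted hA (isAzumayaDeg_matrix_self n) fun p => ⟨W, W', ?_,
      adapted_conj_transpose hlam (SH S p) u _ hw _⟩⟩
  have hsum : (1 : SH S p) ⊗ₜ[S] a + (1 : SH S p) ⊗ₜ[S] (1 - a) = 1 := by
    rw [← TensorProduct.tmul_add, add_sub_cancel]; rfl
  have hbase : (1 : SH S p) ⊗ₜ[S] a = algebraMap S (SH S p) e₀ ⊗ₜ[S] (1 : R) := by
    rw [ha, Algebra.algebraMap_eq_smul_one e₀, Algebra.algebraMap_eq_smul_one e₀, ← TensorProduct.smul_tmul]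
  by_cases hp : e₀ ∈ p.asIdeal
  · have hz : (1 : SH S p) ⊗ₜ[S] a = 0 := by
      have h1 : IsUnit (algebraMap S (SH S p) (1 - e₀)) :=
        isUnit_algebraMap_SH fun h => p.2.ne_top ((Ideal.eq_top_iff_one _).2 (by simpa using p.asIdeal.add_mem h hp))
      have h0 : algebraMap S (SH S p) e₀ = 0 := by
        refine h1.mul_left_eq_zero.1 ?_
        rw [← map_mul, mul_sub, mul_one, he₀.eq, sub_self, map_zero]
      rw [hbase, h0, TensorProduct.zero_tmul]
    rw [hz, zero_add] at hsum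
    obtain ⟨E, hE⟩ := ((orth_or_symp hlam hfix h2 hA t p).resolve_left fun h => (hmem p).1 h hp).2
    refine ⟨E, hE.congr_wT ?_ ?_⟩ <;>
    · ext i j
      simp only [Matrix.map_apply, W, W', J, Matrix.add_apply, Matrix.smul_apply, smul_eq_mul,
        TensorProduct.tmul_add, ← Algebra.TensorProduct.tmul_mul_tmul (1 : SH S p) 1 a,
        show ∀ x : R, (1 : SH S p) ⊗ₜ[S] (a * x) = ((1 : SH S p) ⊗ₜ[S] a) * ((1 : SH S p) ⊗ₜ[S] x) from
          fun x => by rw [Algebra.TensorProduct.tmul_mul_tmul, one_mul],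
        show ∀ x : R, (1 : SH S p) ⊗ₜ[S] ((1 - a) * x) = ((1 : SH S p) ⊗ₜ[S] (1 - a)) * ((1 : SH S p) ⊗ₜ[S] x) from
          fun x => by rw [Algebra.TensorProduct.tmul_mul_tmul, one_mul], hz, hsum, zero_mul, one_mul, zero_add]
  · have hz : (1 : SH S p) ⊗ₜ[S] a = 1 := by
      have h1 : algebraMap S (SH S p) e₀ = 1 :=
        (isUnit_algebraMap_SH hp).mul_left_cancel (by rw [← map_mul, he₀.eq, mul_one])
      rw [hbase, h1]; rfl
    have hz' : (1 : SH S p) ⊗ₜ[S] (1 - a) = 0 := by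
      rw [hz] at hsum; exact add_left_cancel (hsum.trans (add_zero 1).symm)
    obtain ⟨E, hE⟩ := (hmem p).2 hp
    refine ⟨E, hE.congr_wT ?_ ?_⟩ <;>
    · ext i j
      simp only [Matrix.map_apply, W, W', J, Matrix.add_apply, Matrix.smul_apply, smul_eq_mul,
        TensorProduct.tmul_add,
        show ∀ x : R, (1 : SH S p) ⊗ₜ[S] (a * x) = ((1 : SH S p) ⊗ₜ[S] a) * ((1 : SH S p) ⊗ₜ[S] x) from
          fun x => by rw [Algebra.TensorProduct.tmul_mul_tmul, one_mul],
        show ∀ x : R, (1 : SH S p) ⊗ₜ[S] ((1 - a) * x) = ((1 : SH S p) ⊗ₜ[S] (1 - a)) * ((1 : SH S p) ⊗ₜ[S] x) from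
          fun x => by rw [Algebra.TensorProduct.tmul_mul_tmul, one_mul], hz, hz', zero_mul, one_mul, add_zero]

end

end Groth.Agent.AzInvLib
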