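import Groth.Agent.AzInvLib.Types

/-!
# Automorphisms commuting with an involution are conjugations by unitary elements
-/

set_option autoImplicit false

open scoped TensorProduct
open CategoryTheory

namespace Groth.Agent.AzInvLib

universe u v w u'

noncomputable section

attribute [local instance] Algebra.TensorProduct.rightAlgebra

open RInvLib (ct)
open Groth.Agent.Henselization

variable {S : Type u} [CommRing S] {R : Type v} [CommRing R] [Algebra S R]
  {A : Type w} [Ring A] [Algebra S A] [Algebra R A] [IsScalarTower S R A]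
  {lam : R ≃ₐ[S] R}

/-- Elements intertwining `ψ` on pure tensors intertwine everywhere. -/
theorem congr_mul_eq {X : Type u'} [CommRing X] [Algebra S X] (ψ : A ≃ₐ[R] A) {U : X ⊗[S] A}
    (h : ∀ a : A, ((1 : X) ⊗ₜ[S] ψ a) * U = U * ((1 : X) ⊗ₜ[S] a)) (x : X ⊗[S] A) :
    Algebra.TensorProduct.congr (AlgEquiv.refl : X ≃ₐ[X] X) (ψ.restrictScalars S) x * U = U * x := by
  induction x using TensorProduct.induction_on with
  | zero => simp
  | add a b ha hb => rw [map_add, add_mul, mul_add, ha, hb]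
  | tmul s a =>
    have e : ∀ b : A, s ⊗ₜ[S] b = s • ((1 : X) ⊗ₜ[S] b) := fun b => by
      rw [TensorProduct.smul_tmul', smul_eq_mul, mul_one]
    rw [Algebra.TensorProduct.congr_apply, Algebra.TensorProduct.map_tmul]
    show s ⊗ₜ[S] ψ a * U = _
    rw [e, e a, smul_mul_assoc, mul_smul_comm, h]

theorem congr_bc {X : Type u} [CommRing X] [Algebra S X] (t : AzInv.LamInv R A lam) (ψ : A ≃ₐ[R] A)
    (hψ : AzInv.IsInvHom t t ψ) (x : X ⊗[S] A) :
    Algebra.TensorProduct.congr (AlgEquiv.refl : X ≃ₐ[X] X) (ψ.restrictScalars S) (t.bc S lam X x) =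
      t.bc S lam X (Algebra.TensorProduct.congr (AlgEquiv.refl : X ≃ₐ[X] X) (ψ.restrictScalars S) x) := by
  induction x using TensorProduct.induction_on with
  | zero => simp
  | add a b ha hb => simp only [map_add, ha, hb]
  | tmul s a =>
    rw [AzInv.LamInv.bc_tmul, Algebra.TensorProduct.congr_apply, Algebra.TensorProduct.congr_apply,
      Algebra.TensorProduct.map_tmul, Algebra.TensorProduct.map_tmul, AzInv.LamInv.bc_tmul]
    exact congrArg _ (hψ a)

/-- The centre of a split algebra. -/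
theorem exists_eq_rho_of_central {X : Type u} [CommRing X] [Algebra S X] {n : ℕ} [NeZero n]
    (hA : AzInv.IsAzumayaDeg R A n) {E : Fin n → Fin n → X ⊗[S] A} (hE : IsUnits E) {c : X ⊗[S] A}
    (hc : ∀ y, c * y = y * c) : ∃ x, c = rho (R := R) X x := by
  obtain ⟨M, rfl⟩ := (unitsIso hA hE).surjective c
  obtain ⟨x, hx⟩ := Matrix.mem_range_scalar_of_commute_single (M := M) fun i j _ =>
    (unitsIso hA hE).injective (by rw [map_mul, map_mul]; exact (hc _).symm)
  exact ⟨x, by rw [← hx, unitsIso_scalar]⟩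

theorem rho_injective {X : Type u} [CommRing X] [Algebra S X] {n : ℕ} [NeZero n]
    (hA : AzInv.IsAzumayaDeg R A n) {E : Fin n → Fin n → X ⊗[S] A} (hE : IsUnits E) :
    Function.Injective (rho (A := A) (R := R) (S := S) X) := fun x y h => by
  rw [← unitsIso_scalar hA hE, ← unitsIso_scalar hA hE] at h
  exact Matrix.scalar_inj.1 ((unitsIso hA hE).injective h)

theorem exists_unitary_SH (hlam : ∀ r, lam (lam r) = r) (hfix : RInv.IsFixedRing S R lam.toRingEquiv)
    (hsq : SqrtSH S) {n : ℕ} [NeZero n] (hA : AzInv.IsAzumayaDeg R A n) (t : AzInv.LamInv R A lam)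
    (ψ : A ≃ₐ[R] A) (hψ : AzInv.IsInvHom t t ψ) (p : PrimeSpectrum S) :
    ∃ V V' : SH S p ⊗[S] A, V * V' = 1 ∧ V' * V = 1 ∧ t.bc S lam (SH S p) V * V = 1 ∧
      ∀ a : A, ((1 : SH S p) ⊗ₜ[S] ψ a) * V = V * ((1 : SH S p) ⊗ₜ[S] a) := by
  classical
  obtain ⟨hint, hfin, hsep⟩ := sh_setting hlam hfix p
  haveI := hA.1
  have hsplit := splitFibres_of_isSepClosed hA hsep
  obtain ⟨E₀, hE₀⟩ := exists_units (A := A) (SH S p ⊗[S] R) (SH S p) hsplit (n := n)
  have hE := hE₀.map (bridge (R := R) (A := A) (SH S p)).toRingHom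
  obtain ⟨u, hu⟩ := exists_inner (A := A) (SH S p ⊗[S] R) (SH S p) hA hsplit
    (Algebra.TensorProduct.map (AlgHom.id _ _) ψ.toAlgHom)
  let B := bridge (S := S) (R := R) (A := A) (SH S p)
  set U := B ↑u with hUdef
  set U' := B ↑u⁻¹ with hU'def
  have hUU : U * U' = 1 := by rw [hUdef, hU'def, ← map_mul, Units.mul_inv, map_one]
  have hUU' : U' * U = 1 := by rw [hUdef, hU'def, ← map_mul, Units.inv_mul, map_one]
  have hU : ∀ a : A, ((1 : SH S p) ⊗ₜ[S] ψ a) * U = U * ((1 : SH S p) ⊗ₜ[S] a) := fun a => by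
    have := congrArg B (hu ((1 : SH S p ⊗[S] R) ⊗ₜ[R] a))
    rw [map_mul, map_mul, Algebra.TensorProduct.map_tmul, AlgHom.id_apply, bridge_tmul, bridge_tmul] at this
    exact this
  have hall := congr_mul_eq (X := SH S p) ψ hU
  set Ψ := Algebra.TensorProduct.congr (AlgEquiv.refl : SH S p ≃ₐ[SH S p] SH S p) (ψ.restrictScalars S)
  set β := t.bc S lam (SH S p)
  have h1 : ∀ y, β U * Ψ y = y * β U := fun y => by
    have h := congrArg β (hall (β y))
    rw [bc_mul, bc_mul, congr_bc t ψ hψ, bc_bc, bc_bc] at h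
    exact h
  have hcen : ∀ y, β U * U * y = y * (β U * U) := fun y => by
    rw [mul_assoc, ← hall y, ← mul_assoc, h1, mul_assoc]
  obtain ⟨c, hc⟩ := exists_eq_rho_of_central hA hE hcen
  have hrho := rho_injective hA hE
  have hlc : lamX lam (SH S p) c = c := hrho (by rw [← bc_rho, ← hc, bc_mul, bc_bc])
  have hcu : IsUnit c := by
    have hinv : (β U * U) * (U' * β U') = 1 := by
      rw [mul_assoc, ← mul_assoc U, hUU, one_mul, ← bc_mul, hUU', bc_one]
    have hinv' : (U' * β U') * (β U * U) = 1 := by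
      rw [mul_assoc, ← mul_assoc (β U'), ← bc_mul, hUU, bc_one, one_mul, hUU']
    obtain ⟨d, hd⟩ := exists_eq_rho_of_central hA hE (c := U' * β U') fun y => by
      calc U' * β U' * y = U' * β U' * y * ((β U * U) * (U' * β U')) := by rw [hinv, mul_one]
        _ = U' * β U' * ((y * (β U * U)) * (U' * β U')) := by simp only [mul_assoc]
        _ = U' * β U' * (((β U * U) * y) * (U' * β U')) := by rw [hcen]
        _ = ((U' * β U') * (β U * U)) * (y * (U' * β U')) := by simp only [mul_assoc]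
        _ = y * (U' * β U') := by rw [hinv', one_mul]
    exact IsUnit.of_mul_eq_one d (hrho (by rw [map_mul, ← hc, ← hd, hinv, map_one]))
  have hfix' : RInv.IsFixedRing (SH S p) (SH S p ⊗[S] R) (lamX lam (SH S p)).toRingEquiv :=
    RInvLib.isFixedRing_baseChange (lam := lam) hlam hfix (SH S p) (Or.inl inferInstance)
  obtain ⟨s, hs⟩ := RInvLib.exists_fixed hfix' hlc
  obtain ⟨y, hy⟩ := hsq p s (RInvLib.isUnit_of_isUnit_algebraMap hfix' (hs ▸ hcu))
  obtain ⟨y', hy'⟩ := (isUnit_of_mul_isUnit_left (y := y) (x := y)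
    (by rw [hy]; exact RInvLib.isUnit_of_isUnit_algebraMap hfix' (hs ▸ hcu))).exists_right_inv
  have hscal : algebraMap (SH S p) (SH S p ⊗[S] A) s = β U * U := by
    rw [hc, ← hs]; exact ((rho (A := A) (SH S p)).commutes s).symm
  have hb : ∀ (c : SH S p) x, β (c • x) = c • β x := fun c x => map_smul β c x
  refine ⟨y' • U, y • U', ?_, ?_, ?_, fun a => ?_⟩
  · rw [smul_mul_smul_comm, hUU, mul_comm, hy', one_smul]
  · rw [smul_mul_smul_comm, hUU', hy', one_smul]
  · rw [hb, smul_mul_smul_comm, ← hscal, ← hy, Algebra.smul_def, ← map_mul,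
      show y' * y' * (y * y) = 1 by rw [mul_mul_mul_comm, mul_comm y', hy', one_mul], map_one]
  · rw [mul_smul_comm, hU, smul_mul_assoc]

theorem exists_unitary_cover (hlam : ∀ r, lam (lam r) = r) (hfix : RInv.IsFixedRing S R lam.toRingEquiv)
    (hsq : SqrtSH S) {n : ℕ} [NeZero n] (hA : AzInv.IsAzumayaDeg R A n) (t : AzInv.LamInv R A lam)
    (ψ : A ≃ₐ[R] A) (hψ : AzInv.IsInvHom t t ψ) :
    ∃ (S' : Type u) (_ : CommRing S') (_ : Algebra S S') (_ : Algebra.Etale S S')
      (_ : Module.FaithfullyFlat S S') (u : (S' ⊗[S] A)ˣ),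
      t.bc S lam S' (↑u : S' ⊗[S] A) * ↑u = 1 ∧
        ∀ x : S' ⊗[S] A,
          Algebra.TensorProduct.congr (AlgEquiv.refl : S' ≃ₐ[S'] S') (ψ.restrictScalars S) x =
            ↑u * x * ↑u⁻¹ := by
  classical
  haveI := hA.1
  obtain ⟨m, g, hg⟩ := Module.Finite.exists_fin (R := R) (M := A)
  obtain ⟨S', h1, h2, h3, h4, z, hz⟩ := exists_cover_solution (S := S) (M := A) (σ := Bool)
    (κ := Bool ⊕ Unit ⊕ Fin m)
    (fun X _ _ z => Sum.elim (fun b => z b * z (!b) - 1)
      (Sum.elim (fun _ => t.bc S lam X (z true) * z true - 1)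
        fun k => ((1 : X) ⊗ₜ[S] ψ (g k)) * z true - z true * ((1 : X) ⊗ₜ[S] g k)))
    (fun X Y _ _ _ _ f z k => by
      rcases k with k | k | k
      · simp only [Sum.elim_inl, tmap_eq, map_sub, map_mul, map_one]
      · simp only [Sum.elim_inr, Sum.elim_inl]
        rw [map_sub, tmap_eq, map_mul, ← tmap_eq, ← tmap_eq, tmap_bc, tmap_eq _ (1 : X ⊗[S] A), map_one]
      · simp only [Sum.elim_inr, tmap_eq, map_sub, map_mul, Algebra.TensorProduct.map_tmul, map_one]
        rfl)
    fun p => by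
      obtain ⟨V, V', hVV, hVV', hbc, hV⟩ := exists_unitary_SH hlam hfix hsq hA t ψ hψ p
      refine ⟨fun b => bif b then V else V', fun k => ?_⟩
      rcases k with b | k | k <;> refine sub_eq_zero.2 ?_
      · cases b
        · exact hVV'
        · exact hVV
      · exact hbc
      · exact hV (g k)
  have hV : ∀ a : A, ((1 : S') ⊗ₜ[S] ψ a) * z true = z true * ((1 : S') ⊗ₜ[S] a) := fun a => by
    have ha : a ∈ Submodule.span R (Set.range g) := hg ▸ Submodule.mem_top
    induction ha using Submodule.span_induction with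
    | mem x hx =>
      obtain ⟨k, rfl⟩ := hx
      exact sub_eq_zero.1 (hz (Sum.inr (Sum.inr k)))
    | zero => simp
    | add x y _ _ hx hy => rw [map_add, TensorProduct.tmul_add, TensorProduct.tmul_add, add_mul, mul_add, hx, hy]
    | smul r x _ hx =>
      rw [map_smul, smul_tmul_one, smul_tmul_one, mul_assoc, hx, ← mul_assoc, rho_commute, mul_assoc]
  refine ⟨S', h1, h2, h3, h4, ⟨z true, z false, sub_eq_zero.1 (hz (Sum.inl true)), sub_eq_zero.1 (hz (Sum.inl false))⟩,
    sub_eq_zero.1 (hz (Sum.inr (Sum.inl ()))), fun x => ?_⟩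
  show _ = z true * x * z false
  rw [← congr_mul_eq ψ hV x, mul_assoc, show z true * z false = 1 from sub_eq_zero.1 (hz (Sum.inl true)), mul_one]

end

end Groth.Agent.AzInvLib
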